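import Mathlib.GroupTheory.Perm.Basic
import Mathlib.Data.Fintype.Perm

/-!
# Data on the group of the centre-two involution of the presented Thompson group (generated)

The letters are numbered as in `Lib/ThRep`. The nine words are conjugates of c; they generate an
extraspecial group of order 512, and the rows list the conjugates of them by the generators
a, c, d, e, s, t, u, coded by twice the bits of the factors plus the power of a.
-/

set_option autoImplicit false

namespace CfsgLib.ThOut

/-- The letters a, c, d, e, s, t, u. -/
def gL : List ℕ := [0, 4, 6, 8, 10, 12, 14]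

/-- The generators of the normal two-group. -/
def qW : List (List ℕ) :=
  [[4],
   [6, 4, 6],
   [8, 6, 4, 6, 8],
   [10, 8, 6, 4, 6, 8, 11],
   [11, 8, 6, 4, 6, 8, 10],
   [8, 10, 8, 6, 4, 6, 8, 11, 8],
   [10, 10, 8, 6, 4, 6, 8, 11, 11],
   [8, 11, 8, 6, 4, 6, 8, 10, 8]]

/-- The codes of their conjugates, one row for each letter. -/
def conjT : List (List ℕ) :=
  [[2, 4, 8, 16, 32, 64, 128, 256],
   [2, 5, 9, 17, 33, 65, 129, 257],
   [4, 2, 8, 32, 16, 128, 64, 511],
   [2, 8, 4, 64, 256, 16, 511, 32],
   [2, 4, 16, 128, 8, 32, 511, 64],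
   [2, 4, 8, 256, 511, 32, 16, 128],
   [2, 403, 413, 441, 394, 154, 102, 473]]

/-- Nine sets of classes, each the nonzero elements and zero of a space of dimension four. -/
def blocks : List ℕ :=
  [0xc000030000300000000c00000003000000c0000000000c00000000003,
   0x5000000000a00000000a0500000000000500000a000000a00000000000005,
   0x224400004422000000000011000088000000000000000088000011,
   0x101004040000000008082020000002020000000080804040000000000101,
   0x2000200400040100010000800080004000400200020000080008000010001,
   0x100002001000020000840000008400000400800004008002000000120000001,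
   0x10040002000080001004000200008000082000400000010008200040000001,
   0x24010080000042000000000800100000240100800000420000000008001,
   0x8000010000100008000200400400200000040020020040001000080000800001]

/-- The permutation of the nine sets by each letter. -/
def permE : ℕ → Equiv.Perm (Fin 9)
  | 6 => Equiv.swap 0 1
    * Equiv.swap 3 4
    * Equiv.swap 5 6
    * Equiv.swap 7 8
  | 8 => Equiv.swap 1 2
    * Equiv.swap 3 5
    * Equiv.swap 4 7
    * Equiv.swap 6 8
  | 10 => Equiv.swap 2 3
    * Equiv.swap 3 6
    * Equiv.swap 6 8
    * Equiv.swap 8 7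
    * Equiv.swap 7 5
    * Equiv.swap 5 4
  | 12 => Equiv.swap 3 7
    * Equiv.swap 7 6
    * Equiv.swap 4 8
    * Equiv.swap 8 5
  | 14 => Equiv.swap 3 7
    * Equiv.swap 4 5
  | _ => 1

/-- Words giving the cycles (0 1 i). -/
def cycW : List (List ℕ) :=
  [[6, 8, 6, 14, 6, 14],
   [10, 8, 14, 6, 8, 14, 10, 6],
   [6, 10, 8, 6, 14, 6, 14, 10],
   [6, 10, 10, 8, 6, 14, 6, 14, 10, 10],
   [10, 10, 8, 14, 6, 8, 14, 10, 10, 6],
   [14, 10, 6, 8, 6, 14, 6, 10, 14, 10],
   [6, 12, 10, 8, 6, 14, 6, 14, 10, 12, 12]]

/-- A word giving a cycle of length nine. -/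
def nineW : List ℕ := [6, 8, 10]

/-- A word giving the conjugate of that cycle by a transposition. -/
def nineW' : List ℕ := [8, 14, 6, 14, 10]

end CfsgLib.ThOut
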