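import Cfsg.Agent.Lib.ThRep.Rep
import Cfsg.Agent.Lib.ThOut.Data

/-!
# Comparing words of the presented Thompson group through the representation

If the group is simple, the representation of degree 248 is injective, so an equation between two
words holds as soon as it holds between the matrices.
-/

set_option autoImplicit false
set_option maxRecDepth 100000

namespace CfsgLib.ThOut

open Cfsg.Spor CfsgLib.ThRep CfsgLib.ThRep.ModThree

attribute [local irreducible] matGens evalP lm

/-- The element of a letter. -/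
def el : ℕ → Cfsg.Spor.Th
  | 0 => PresentedGroup.of Th.Gen.a
  | 1 => (PresentedGroup.of Th.Gen.a)⁻¹
  | 2 => PresentedGroup.of Th.Gen.b
  | 3 => (PresentedGroup.of Th.Gen.b)⁻¹
  | 4 => PresentedGroup.of Th.Gen.c
  | 5 => (PresentedGroup.of Th.Gen.c)⁻¹
  | 6 => PresentedGroup.of Th.Gen.d
  | 7 => (PresentedGroup.of Th.Gen.d)⁻¹
  | 8 => PresentedGroup.of Th.Gen.e
  | 9 => (PresentedGroup.of Th.Gen.e)⁻¹
  | 10 => PresentedGroup.of Th.Gen.s
  | 11 => (PresentedGroup.of Th.Gen.s)⁻¹
  | 12 => PresentedGroup.of Th.Gen.t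
  | 13 => (PresentedGroup.of Th.Gen.t)⁻¹
  | 14 => PresentedGroup.of Th.Gen.u
  | 15 => (PresentedGroup.of Th.Gen.u)⁻¹
  | _ => 1

/-- The element of a word. -/
def ev (w : List ℕ) : Cfsg.Spor.Th := (w.map el).prod

theorem ev_nil : ev [] = 1 := rfl

theorem ev_cons (g : ℕ) (w : List ℕ) : ev (g :: w) = el g * ev w := by
  simp [ev]

theorem ev_append (u w : List ℕ) : ev (u ++ w) = ev u * ev w := by
  simp [ev]

theorem rho_el {g : ℕ} (hg : g < 16) :
    ((rho (el g) : GL (Fin 248) (ZMod 3)) : Matrix (Fin 248) (Fin 248) (ZMod 3)) = lm g := by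
  interval_cases g <;> simp only [el, map_inv, rho_of] <;> rfl

theorem rho_ev : ∀ {w : List ℕ}, (∀ g ∈ w, g < 16) →
    ((rho (ev w) : GL (Fin 248) (ZMod 3)) : Matrix (Fin 248) (Fin 248) (ZMod 3)) = (w.map lm).prod
  | [], _ => by simp [ev_nil]
  | g :: w, h => by
    rw [ev_cons, map_mul, Units.val_mul, rho_ev fun a ha => h a (List.mem_cons_of_mem _ ha),
      rho_el (h g List.mem_cons_self), List.map_cons, List.prod_cons]

/-- Dropping entries, by a recursor. -/
noncomputable def skipF (s : ℕ) : List ℕ → List ℕ :=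
  Nat.rec (motive := fun _ => List ℕ → List ℕ) (fun Y => Y)
    (fun _ ih Y => ih (List.rec (motive := fun _ => List ℕ) [] (fun _ t _ => t) Y)) s

/-- A sparse row times a packed matrix, by recursors. -/
noncomputable def dotF (r : List (ℕ × ℕ)) : List ℕ → ℕ :=
  List.rec (motive := fun _ => List ℕ → ℕ) (fun _ => 0)
    (fun p _ ih Y =>
      List.rec (motive := fun _ => ℕ) 0 (fun y t _ => p.2 * y + ih t) (skipF p.1 Y)) r

/-- A sparse matrix times a packed matrix, by a recursor. -/
noncomputable def mulF (g : List (List (ℕ × ℕ))) : List ℕ → List ℕ :=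
  List.rec (motive := fun _ => List ℕ → List ℕ) (fun _ => [])
    (fun r _ ih Y => red 248 (dotF r Y) :: ih Y) g

/-- The packed value of a word, by a recursor. -/
noncomputable def evF (w : List ℕ) : List ℕ :=
  List.rec (motive := fun _ => List ℕ) (idP 248) (fun g _ ih => mulF (matGens.getD g []) ih) w

theorem skipF_eq : ∀ (s : ℕ) (Y : List ℕ), skipF s Y = Y.drop s
  | 0, _ => rfl
  | s + 1, [] => by
    show skipF s [] = _
    rw [skipF_eq s]; simp
  | s + 1, y :: Y => by
    show skipF s Y = _
    rw [skipF_eq s]; rfl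

theorem dotF_eq : ∀ (r : List (ℕ × ℕ)) (Y : List ℕ), dotF r Y = dotP r Y
  | [], _ => rfl
  | (s, v) :: r, Y => by
    show (List.rec (motive := fun _ => ℕ) 0 (fun y t _ => v * y + dotF r t) (skipF s Y)) = _
    rw [skipF_eq, dotP]
    cases Y.drop s with
    | nil => rfl
    | cons y t => exact congrArg (v * y + ·) (dotF_eq r t)

theorem mulF_eq : ∀ (g : List (List (ℕ × ℕ))) (Y : List ℕ), mulF g Y = mulP 248 g Y
  | [], _ => rfl
  | r :: g, Y => by
    show red 248 (dotF r Y) :: mulF g Y = _
    rw [dotF_eq, mulF_eq g]; rfl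

theorem evF_eq : ∀ w : List ℕ, evF w = evalP 248 matGens w
  | [] => by unfold evalP; rfl
  | g :: w => by
    show mulF (matGens.getD g []) (evF w) = _
    rw [mulF_eq, evF_eq w]
    unfold evalP
    rfl

/-- Two words have the same matrix. -/
noncomputable def sameM (u v : List ℕ) : Bool :=
  u.all (fun g => Nat.blt g 16) && v.all (fun g => Nat.blt g 16) && beqL (evF u) (evF v)

theorem evalL_eq {u v : List ℕ} (hu : ∀ g ∈ u, g < 16) (hv : ∀ g ∈ v, g < 16)
    (h : beqL (evalP 248 matGens u) (evalP 248 matGens v) = true) :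
    (u.map lm).prod = (v.map lm).prod := by
  have hok : ∀ {w : List ℕ}, (∀ g ∈ w, g < 16) → ∀ g ∈ w, okGen 248 (matGens.getD g []) = true :=
    fun hw g hg => List.all_eq_true.1 matGens_ok g (List.mem_range.2 (hw g hg))
  obtain ⟨a1, a2, a3, a4⟩ := eval_spec matGens mat_hid u (hok hu)
  obtain ⟨b1, b2, b3, b4⟩ := eval_spec matGens mat_hid v (hok hv)
  have he := eq_of_beqL h
  rw [a1, b1] at he
  unfold lm
  rw [← a4, ← b4]
  congr 1
  refine List.ext_getElem (a3.trans b3.symm) fun i h1 h2 => ?_
  have hi : pk ((evalL 248 matGens u)[i]) = pk ((evalL 248 matGens v)[i]) := by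
    have e := congrArg (fun l : List ℕ => l.getD i 0) he
    rwa [List.getD_eq_getElem _ 0 (by simpa using h1), List.getD_eq_getElem _ 0 (by simpa using h2),
      List.getElem_map, List.getElem_map] at e
  obtain ⟨l1, c1⟩ := a2 _ (List.getElem_mem h1)
  obtain ⟨l2, c2⟩ := b2 _ (List.getElem_mem h2)
  exact pk_inj (l1.trans l2.symm) c1 c2 hi

/-- A simple group is embedded by the representation. -/
theorem rho_injective [IsSimpleGroup Cfsg.Spor.Th] : Function.Injective rho := by
  rw [← MonoidHom.ker_eq_bot_iff]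
  refine ((MonoidHom.normal_ker rho).eq_bot_or_eq_top).resolve_right fun htop => ?_
  have ha : rho (el 0) = 1 := MonoidHom.mem_ker.1 (htop ▸ Subgroup.mem_top _)
  have h0 : lm 0 = 1 := by rw [← rho_el (by norm_num : 0 < 16), ha]; rfl
  have hok : ∀ g ∈ ([0] : List ℕ), okGen 248 (matGens.getD g []) = true := fun g hg =>
    List.all_eq_true.1 matGens_ok g (List.mem_range.2 (by simp at hg; omega))
  obtain ⟨e1, e2, e3, e4⟩ := eval_spec matGens mat_hid [0] hok
  have e5 : toMat 248 (evalL 248 matGens [0]) = toMat 248 (idL 248) := by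
    rw [e4, toMat_idL, ← h0]
    unfold lm
    simp
  have key : evalL 248 matGens [0] = idL 248 := by
    refine List.ext_getElem (by rw [e3]; simp [idL]) fun i h1 h2 => ?_
    obtain ⟨l1, b1⟩ := e2 _ (List.getElem_mem h1)
    obtain ⟨l2, b2⟩ := idL_good (n := 248) _ (List.getElem_mem h2)
    refine List.ext_getElem (l1.trans l2.symm) fun j j1 j2 => ?_
    have hi : i < 248 := by rw [← e3]; exact h1
    have hj : j < 248 := by rw [← l1]; exact j1
    have e := congrFun (congrFun e5 ⟨i, hi⟩) ⟨j, hj⟩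
    simp only [toMat, Matrix.of_apply] at e
    rw [List.getD_eq_getElem _ [] h1, List.getD_eq_getElem _ [] h2, List.getD_eq_getElem _ 0 j1,
      List.getD_eq_getElem _ 0 j2] at e
    have := congrArg ZMod.val e
    rwa [ZMod.val_natCast, ZMod.val_natCast, Nat.mod_eq_of_lt (b1 _ (List.getElem_mem j1)),
      Nat.mod_eq_of_lt (b2 _ (List.getElem_mem j2))] at this
  have hne := a_ne
  rw [e1, key, ← mat_hid] at hne
  have hb : ∀ l : List ℕ, beqL l l = true := by
    intro l
    induction l with
    | nil => rfl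
    | cons a l ih => simp [beqL, ih]
  rw [hb] at hne
  exact Bool.noConfusion hne

/-- Words with the same matrix are equal. -/
theorem ev_eq [IsSimpleGroup Cfsg.Spor.Th] {u v : List ℕ} (h : sameM u v = true) : ev u = ev v := by
  simp only [sameM, evF_eq, Bool.and_eq_true, List.all_eq_true, Nat.blt_eq] at h
  refine rho_injective (Units.ext ?_)
  rw [rho_ev h.1.1, rho_ev h.1.2, evalL_eq h.1.1 h.1.2 h.2]

end CfsgLib.ThOut
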