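import Cfsg.Agent.Lib.ThOut.Coord
import Cfsg.Agent.Lib.Known.AltAut

/-!
# The action on nine sets of classes

The seven letters permute nine sets of classes, which gives a homomorphism onto the alternating
group of degree nine. If the centraliser of a is small enough, its kernel is the normal two-group,
the centraliser of a is generated by the seven letters, and only a centralises the two-group.
-/

set_option autoImplicit false
set_option maxRecDepth 100000

namespace CfsgLib.ThOut

open Cfsg.Spor Equiv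

attribute [local irreducible] qW conjT blocks sameM

/-- A class lies in one of the nine sets. -/
def inW (k v : ℕ) : Bool := (blocks.getD k 0).testBit v

/-- The letters permute the nine sets as listed. -/
def moveOk (r : ℕ) : Bool :=
  (List.range 256).all fun v => (List.range 9).all fun k =>
    inW ((permE (gL.getD r 0) (Fin.ofNat 9 k) : Fin 9) : ℕ) (imgN r 8 v) == inW k v

theorem move_ok : ((List.range 7).all moveOk) = true := by decide +kernel

theorem sep_ok : ((List.range 9).all fun k => (List.range 9).all fun k' =>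
    Nat.beq k k' || (List.range 256).any fun v => !(inW k v == inW k' v)) = true := by
  decide +kernel

theorem perm_even : ∀ g ∈ gL, Equiv.Perm.sign (permE g) = 1 := by decide +kernel

theorem cyc_ok : ∀ i : Fin 9, 2 ≤ i.val →
    ((cycW.getD (i.val - 2) []).all fun g => gL.contains g) = true ∧
    ∀ x : Fin 9, ((cycW.getD (i.val - 2) []).map permE).prod x =
      Known.AltAut.cyc (0 : Fin 9) 1 i x := by
  decide +kernel

variable [IsSimpleGroup Cfsg.Spor.Th]

/-- An element permutes the classes so that the nine sets move as given. -/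
def Rep (x : Hs) (σ : Perm (Fin 9)) : Prop :=
  ∀ v < 256, ∃ w < 256, bar x * eb 8 v = eb 8 w * bar x ∧
    ∀ k : Fin 9, inW (σ k) w = inW k v

theorem rep_one : Rep 1 1 := fun v hv =>
  ⟨v, hv, by rw [map_one, one_mul, mul_one], fun _ => rfl⟩

theorem Rep.mul {x y : Hs} {σ τ : Perm (Fin 9)} (hx : Rep x σ) (hy : Rep y τ) :
    Rep (x * y) (σ * τ) := by
  intro v hv
  obtain ⟨w, hw, e1, f1⟩ := hy v hv
  obtain ⟨u, hu, e2, f2⟩ := hx w hw
  refine ⟨u, hu, ?_, fun k => ?_⟩
  · rw [map_mul, mul_assoc, e1, ← mul_assoc, e2, mul_assoc]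
  · rw [Perm.mul_apply, f2, f1]

theorem Rep.pow {x : Hs} {σ : Perm (Fin 9)} (hx : Rep x σ) : ∀ n : ℕ, Rep (x ^ n) (σ ^ n)
  | 0 => by simpa using rep_one
  | n + 1 => by simpa [pow_succ] using (Rep.pow hx n).mul hx

theorem rep_gen {r : ℕ} (hr : r < 7) :
    Rep (hel (gL.getD r 0)) (permE (gL.getD r 0)) := by
  intro v hv
  refine ⟨imgN r 8 v, imgN_lt hr le_rfl v, conj_class hr le_rfl v, fun k => ?_⟩
  have := List.all_eq_true.1 move_ok r (List.mem_range.2 hr)
  simp only [moveOk, List.all_eq_true, List.mem_range, beq_iff_eq] at this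
  have h := this v hv k.val k.isLt
  rwa [show Fin.ofNat 9 k.val = k from Fin.ext (Nat.mod_eq_of_lt k.isLt)] at h

theorem rep_hel {g : ℕ} (hg : g ∈ gL) : Rep (hel g) (permE g) := by
  obtain ⟨r, hr, rfl⟩ := List.getElem_of_mem hg
  have := rep_gen (r := r) hr
  rwa [List.getD_eq_getElem _ _ hr] at this

theorem rep_one_eq {ρ : Perm (Fin 9)} (h : Rep 1 ρ) : ρ = 1 := by
  ext1 k
  by_contra hne
  have := List.all_eq_true.1 (List.all_eq_true.1 sep_ok _ (List.mem_range.2 (ρ k).isLt)) k.val
    (List.mem_range.2 k.isLt)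
  simp only [Bool.or_eq_true, Nat.beq_eq, List.any_eq_true, List.mem_range, Bool.not_eq_true',
    beq_eq_false_iff_ne] at this
  rcases this with e | ⟨v, hv, e⟩
  · exact hne (Fin.ext e)
  · obtain ⟨w, hw, h1, h2⟩ := h v hv
    rw [map_one, one_mul, mul_one] at h1
    obtain rfl := eb_inj hv hw h1
    exact e (h2 k)

variable [Finite Cfsg.Spor.Th]

theorem Rep.unique {x : Hs} {σ τ : Perm (Fin 9)} (hx : Rep x σ) (hy : Rep x τ) : σ = τ := by
  have e : x ^ (orderOf x - 1) * x = 1 := by
    rw [← pow_succ, Nat.sub_add_cancel (orderOf_pos x), pow_orderOf_eq_one]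
  have h1 := (Rep.pow hx (orderOf x - 1)).mul hx
  have h2 := (Rep.pow hx (orderOf x - 1)).mul hy
  rw [e] at h1 h2
  exact mul_left_cancel ((rep_one_eq h1).trans (rep_one_eq h2).symm)

theorem rep_exists (x : Hs) : ∃ σ, Rep x σ := by
  obtain ⟨x, hx⟩ := x
  induction hx using Subgroup.closure_induction with
  | mem y hy =>
    obtain ⟨g, hg, rfl⟩ := hy
    refine ⟨permE g, ?_⟩
    have e : (hel g : Hs) = ⟨el g, Subgroup.subset_closure ⟨g, hg, rfl⟩⟩ :=
      Subtype.ext (coe_hel (gL_sub g hg))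
    exact e ▸ rep_hel hg
  | one => exact ⟨1, rep_one⟩
  | mul y z hy hz h1 h2 =>
    obtain ⟨σ, h1⟩ := h1
    obtain ⟨τ, h2⟩ := h2
    exact ⟨σ * τ, h1.mul h2⟩
  | inv y hy h =>
    obtain ⟨σ, h⟩ := h
    refine ⟨σ ^ (orderOf (⟨y, hy⟩ : Hs) - 1), ?_⟩
    have e : (⟨y, hy⟩ : Hs) ^ (orderOf (⟨y, hy⟩ : Hs) - 1) = ⟨y⁻¹, Subgroup.inv_mem _ hy⟩ := by
      refine (eq_inv_of_mul_eq_one_left (b := (⟨y, hy⟩ : Hs)) ?_).trans (Subtype.ext rfl)
      rw [← pow_succ, Nat.sub_add_cancel (orderOf_pos _), pow_orderOf_eq_one]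
    exact e ▸ h.pow _

/-- The permutation of the nine sets. -/
noncomputable def pi : Hs →* Perm (Fin 9) :=
  MonoidHom.mk' (fun x => (rep_exists x).choose) fun x y =>
    (rep_exists (x * y)).choose_spec.unique
      ((rep_exists x).choose_spec.mul (rep_exists y).choose_spec)

theorem pi_eq {x : Hs} {σ : Perm (Fin 9)} (h : Rep x σ) : pi x = σ :=
  (rep_exists x).choose_spec.unique h

theorem pi_hev : ∀ {w : List ℕ}, (∀ g ∈ w, g ∈ gL) → pi (hev w) = (w.map permE).prod
  | [], _ => by simp [hev_nil]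
  | g :: w, h => by
    rw [hev_cons, map_mul, pi_hev fun a ha => h a (List.mem_cons_of_mem _ ha),
      pi_eq (rep_hel (h g List.mem_cons_self)), List.map_cons, List.prod_cons]

theorem pi_mem (x : Hs) : pi x ∈ alternatingGroup (Fin 9) := by
  obtain ⟨x, hx⟩ := x
  induction hx using Subgroup.closure_induction with
  | mem y hy =>
    obtain ⟨g, hg, rfl⟩ := hy
    rw [show (⟨el g, Subgroup.subset_closure ⟨g, hg, rfl⟩⟩ : Hs) = hel g from
      Subtype.ext (coe_hel (gL_sub g hg)).symm, pi_eq (rep_hel hg), Equiv.Perm.mem_alternatingGroup]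
    exact perm_even g hg
  | one => exact (map_one pi).symm ▸ one_mem _
  | mul y z hy hz h1 h2 =>
    exact (map_mul pi (⟨y, hy⟩ : Hs) ⟨z, hz⟩).symm ▸ mul_mem h1 h2
  | inv y hy h => exact (map_inv pi (⟨y, hy⟩ : Hs)).symm ▸ inv_mem h

/-- The map onto the alternating group. -/
noncomputable def piA : Hs →* alternatingGroup (Fin 9) := pi.codRestrict _ pi_mem

theorem coe_piA (x : Hs) : ((piA x : alternatingGroup (Fin 9)) : Perm (Fin 9)) = pi x := rfl

theorem piA_surjective : Function.Surjective piA := by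
  intro σ
  have h : alternatingGroup (Fin 9) ≤ pi.range := by
    refine Known.AltAut.eq_top_of_gens (by norm_num) _ fun i hi => ?_
    obtain ⟨h1, h2⟩ := cyc_ok i hi
    simp only [List.all_eq_true, List.contains_iff_mem] at h1
    exact ⟨hev (cycW.getD (i.val - 2) []), (pi_hev h1).trans (Equiv.ext h2)⟩
  obtain ⟨x, hx⟩ := h σ.2
  exact ⟨x, Subtype.ext hx⟩

/-- The elements whose class is a product of factors. -/
noncomputable def Qs : Subgroup Hs where
  carrier := {x | ∃ v < 256, bar x = eb 8 v}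
  one_mem' := ⟨0, by norm_num, by rw [map_one, eb_zero]⟩
  mul_mem' := by
    rintro x y ⟨v, hv, e⟩ ⟨w, hw, e'⟩
    exact ⟨v ^^^ w, Nat.xor_lt_two_pow (n := 8) hv hw, by rw [map_mul, e, e', eb_xor le_rfl]⟩
  inv_mem' := by
    rintro x ⟨v, hv, e⟩
    exact ⟨v, hv, by rw [map_inv, e, inv_eq_of_mul_eq_one_right (eb_sq le_rfl v)]⟩

theorem qs_le_ker : Qs ≤ piA.ker := by
  rintro x ⟨u, -, e⟩
  refine MonoidHom.mem_ker.2 (Subtype.ext ?_)
  rw [coe_piA]
  exact pi_eq fun v hv => ⟨v, hv, by rw [e, eb_comm le_rfl], fun _ => rfl⟩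

theorem card_qs : Nat.card Qs = 512 := by
  let f : Fin 256 × Fin 2 → Qs := fun p =>
    ⟨hev (selW 8 p.1.val) * zH ^ p.2.val, p.1.val, p.1.isLt, by
      rw [map_mul, map_pow, bar_zH, one_pow, mul_one]; rfl⟩
  have hb : ∀ p, bar (f p : Hs) = eb 8 p.1.val := fun p => by
    show bar (hev (selW 8 p.1.val) * zH ^ p.2.val) = _
    rw [map_mul, map_pow, bar_zH, one_pow, mul_one]; rfl
  have hf : Function.Bijective f := by
    refine ⟨fun p q e => ?_, ?_⟩
    · have e1 : p.1 = q.1 := Fin.ext (eb_inj p.1.isLt q.1.isLt (by rw [← hb, ← hb, e]))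
      have e2 := congrArg Subtype.val e
      simp only [f, e1, mul_right_inj] at e2
      obtain ⟨p1, p2⟩ := p
      obtain ⟨q1, q2⟩ := q
      fin_cases p2 <;> fin_cases q2 <;> simp_all [zH_ne, zH_ne.symm]
    · rintro ⟨x, v, hv, e⟩
      rcases bar_eq_one.1 (show bar ((hev (selW 8 v))⁻¹ * x) = 1 by
        rw [map_mul, map_inv, e]; exact inv_mul_cancel _) with h | h
      · exact ⟨(⟨v, hv⟩, 0), Subtype.ext (by simpa [f] using (inv_mul_eq_one.1 h))⟩
      · exact ⟨(⟨v, hv⟩, 1), Subtype.ext (by simp [f, ← h])⟩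
  rw [← Nat.card_eq_of_bijective f hf, Nat.card_prod, Nat.card_fin, Nat.card_fin]

theorem card_alt : Nat.card (alternatingGroup (Fin 9)) = 181440 := by
  rw [nat_card_alternatingGroup, Nat.card_fin]; rfl

theorem card_hs_eq : Nat.card Hs = 181440 * Nat.card piA.ker := by
  rw [Subgroup.card_eq_card_quotient_mul_card_subgroup piA.ker,
    Nat.card_congr (QuotientGroup.quotientKerEquivOfSurjective piA piA_surjective).toEquiv,
    card_alt]

theorem hs_le_cent : Hs ≤ Subgroup.centralizer ({el 0} : Set Cfsg.Spor.Th) := fun x hx =>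
  Subgroup.mem_centralizer_singleton_iff.2 (commute_a hx).symm.eq

section

variable (hC : Nat.card (Subgroup.centralizer ({el 0} : Set Cfsg.Spor.Th)) ≤ 92897280)
include hC

theorem card_ker : Nat.card piA.ker = 512 := by
  have h1 := Subgroup.card_le_of_le hs_le_cent
  have h2 := Subgroup.card_le_of_le qs_le_ker
  rw [card_qs] at h2
  rw [card_hs_eq] at h1
  omega

theorem ker_eq : piA.ker = Qs :=
  (Subgroup.eq_of_le_of_card_ge qs_le_ker (by rw [card_ker hC, card_qs])).symm

theorem card_hs : Nat.card Hs = 92897280 := by rw [card_hs_eq, card_ker hC]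

theorem cent_eq : Subgroup.centralizer ({el 0} : Set Cfsg.Spor.Th) = Hs :=
  (Subgroup.eq_of_le_of_card_ge hs_le_cent (by rw [card_hs hC]; exact hC)).symm

theorem qs_normal : Qs.Normal := ker_eq hC ▸ piA.normal_ker

theorem piA_eq_one {x : Hs} : piA x = 1 ↔ x ∈ Qs := by
  rw [← ker_eq hC, MonoidHom.mem_ker]

/-- Only a centralises the two-group. -/
theorem cent_qs {x : Hs} (hx : ∀ y ∈ Qs, x * y = y * x) : x = 1 ∨ x = zH := by
  haveI := qs_normal hC
  set K := Subgroup.centralizer (Qs : Set Hs) with hK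
  have hxK : x ∈ K := Subgroup.mem_centralizer_iff.2 fun y hy => (hx y hy).symm
  haveI : K.Normal := by
    constructor
    intro n hn g
    rw [hK, Subgroup.mem_centralizer_iff] at hn ⊢
    intro y hy
    have h' := hn (g⁻¹ * y * g) (by simpa using (qs_normal hC).conj_mem y hy g⁻¹)
    calc y * (g * n * g⁻¹) = g * ((g⁻¹ * y * g) * n) * g⁻¹ := by group
      _ = g * (n * (g⁻¹ * y * g)) * g⁻¹ := by rw [h']
      _ = g * n * g⁻¹ * y := by group
  haveI hs9 : IsSimpleGroup (alternatingGroup (Fin 9)) :=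
    alternatingGroup.isSimpleGroup (by simp)
  rcases (Subgroup.Normal.map (inferInstance : K.Normal) piA piA_surjective).eq_bot_or_eq_top with
    hb | ht
  · obtain ⟨u, hu, e⟩ : x ∈ Qs := (piA_eq_one hC).1
      (Subgroup.mem_bot.1 (hb ▸ Subgroup.mem_map_of_mem piA hxK))
    have h0 : u = 0 := by
      refine sel_central hu fun i hi => ?_
      have hq : hev (qw i) ∈ Qs := ⟨2 ^ i, Nat.pow_lt_pow_right (by norm_num) hi, by
        interval_cases i <;> simp [eb, selW, hev_nil, hev_append, Nat.testBit]⟩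
      rcases bar_eq_one.1 (show bar ((hev (selW 8 u))⁻¹ * x) = 1 by
        rw [map_mul, map_inv, e]; exact inv_mul_cancel _) with h | h
      · rw [inv_mul_eq_one.1 h]; exact (hx _ hq).symm
      · rw [inv_mul_eq_iff_eq_mul] at h
        have h' := hx _ hq
        rw [h, mul_assoc, zH_comm, ← mul_assoc, ← mul_assoc] at h'
        exact (mul_right_cancel h').symm
    rw [h0, eb_zero] at e
    exact bar_eq_one.1 e
  · obtain ⟨k, hk, e⟩ : piA (hel 6) ∈ K.map piA := ht ▸ Subgroup.mem_top _
    obtain ⟨u, hu, eu⟩ : k⁻¹ * hel 6 ∈ Qs := (piA_eq_one hC).1 (by rw [map_mul, map_inv, e, inv_mul_cancel])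
    have hq : hev (qw 0) ∈ Qs := ⟨1, by norm_num, by simp [eb, selW, hev_nil, Nat.testBit]⟩
    have hd : bar (hel 6) = bar k * eb 8 u := by
      rw [← eu, ← map_mul, mul_inv_cancel_left]
    have h1 := conj_class (r := 2) (by norm_num) le_rfl 1
    rw [show gL.getD 2 0 = 6 from rfl, show eb 8 1 = bar (hev (qw 0)) by
      simp [eb, selW, hev_nil, Nat.testBit]] at h1
    have hkq : bar k * bar (hev (qw 0)) = bar (hev (qw 0)) * bar k := by
      rw [← map_mul, ← map_mul, ← (Subgroup.mem_centralizer_iff.1 hk _ hq)]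
    have h2 : bar (hel 6) * bar (hev (qw 0)) = eb 8 1 * bar (hel 6) := by
      rw [hd, mul_assoc, ← (qb_comm (i := 0) (by norm_num) le_rfl u).eq, ← mul_assoc, hkq,
        mul_assoc]
      simp [eb, selW, hev_nil, Nat.testBit]
    rw [h2] at h1
    have := eb_inj (by norm_num) (imgN_lt (r := 2) (by norm_num) le_rfl 1) (mul_right_cancel h1)
    exact absurd this (by decide +kernel)

end

end CfsgLib.ThOut
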