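import Cfsg.Agent.Lib.ThOut.Inner
import Cfsg.Prelude.Def_KGroupFacts

/-!
# Every automorphism of the presented Thompson group is inner

The centre of a Sylow 2-subgroup is generated by a, so every automorphism moves a to a conjugate.
After inner corrections it fixes the seven letters. The conjugate of ac by b is then determined up
to a, and b is a word in it, a and d.
-/

set_option autoImplicit false
set_option maxRecDepth 100000

namespace CfsgLib.ThOut

open Cfsg.Spor

attribute [local irreducible] qW conjT blocks sameM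

variable [IsSimpleGroup Cfsg.Spor.Th] [Finite Cfsg.Spor.Th]

theorem ev1 (g : ℕ) : ev [g] = el g := by simp [ev]

theorem fac_two {n m : ℕ} (h : n = 2 ^ 15 * m) (hm : ¬ 2 ∣ m) : n.factorization 2 = 15 := by
  have hm0 : m ≠ 0 := fun e => hm (e ▸ dvd_zero 2)
  rw [h, Nat.factorization_mul (by norm_num) hm0, Nat.Prime.factorization_pow Nat.prime_two,
    Finsupp.add_apply, Finsupp.single_eq_same, Nat.factorization_eq_zero_of_not_dvd hm, add_zero]

variable (hC : Nat.card (Subgroup.centralizer ({el 0} : Set Cfsg.Spor.Th)) ≤ 92897280)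
include hC

theorem two_part : (Nat.card Hs).factorization 2 = 15 := by
  rw [card_hs hC]
  exact fac_two (m := 2835) (by norm_num) (by norm_num)

/-- Every automorphism maps a to a conjugate. -/
theorem image_a (hG : Nat.card Cfsg.Spor.Th = 90745943887872000)
    (f : Cfsg.Spor.Th ≃* Cfsg.Spor.Th) : ∃ g : Cfsg.Spor.Th, f (el 0) = g * el 0 * g⁻¹ := by
  classical
  have := Fact.mk Nat.prime_two
  have hQp : IsPGroup 2 Qs := IsPGroup.of_card (n := 9) (by rw [card_qs]; norm_num)
  obtain ⟨P, hP⟩ := hQp.exists_le_sylow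
  set P1 := (P : Subgroup Hs).map Hs.subtype with hP1
  have hcard : Nat.card P1 = 2 ^ (Nat.card Cfsg.Spor.Th).factorization 2 := by
    rw [hP1, Subgroup.card_map_of_injective Hs.subtype_injective, P.card_eq_multiplicity,
      two_part hC, hG]
    congr 1
    exact (fac_two (m := 2769346432125) (by norm_num) (by norm_num)).symm
  have ha : el 0 ∈ P1 := ⟨zH, hP ⟨0, by norm_num, by rw [bar_zH, eb_zero]⟩, coe_zH⟩
  have hcenter : ∀ y, (∀ p ∈ P1, y * p = p * y) → y = 1 ∨ y = el 0 := by
    intro y hy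
    have hyH : y ∈ Hs := by
      rw [← cent_eq hC]
      exact Subgroup.mem_centralizer_singleton_iff.2 (hy _ ha)
    rcases cent_qs hC (x := ⟨y, hyH⟩) (fun q hq =>
      Subtype.ext (hy _ ⟨q, hP hq, rfl⟩)) with e | e
    · exact Or.inl (congrArg Subtype.val e)
    · exact Or.inr ((congrArg Subtype.val e).trans coe_zH)
  set Q1 := Sylow.ofCard P1 hcard
  set Q2 := Sylow.ofCard (P1.map f.toMonoidHom)
    (by rw [Subgroup.card_map_of_injective f.injective, hcard])
  obtain ⟨g, hg⟩ := MulAction.exists_smul_eq Cfsg.Spor.Th Q1 Q2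
  refine ⟨g, ?_⟩
  have hset : ∀ p, p ∈ P1 → g * p * g⁻¹ ∈ P1.map f.toMonoidHom := by
    intro p hp
    have : g * p * g⁻¹ ∈ ((g • Q1 : Sylow 2 Cfsg.Spor.Th) : Subgroup Cfsg.Spor.Th) := by
      rw [Sylow.coe_subgroup_smul]
      exact Subgroup.smul_mem_pointwise_smul p (MulAut.conj g) _ hp
    rwa [hg] at this
  have key : g⁻¹ * f (el 0) * g = 1 ∨ g⁻¹ * f (el 0) * g = el 0 := by
    refine hcenter _ fun p hp => ?_
    obtain ⟨p', hp', e⟩ := hset p hp
    have hz : Commute (el 0) p' := by
      obtain ⟨q, -, rfl⟩ := hp'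
      exact commute_a q.2
    have h := congrArg f hz.eq
    rw [map_mul, map_mul] at h
    change f p' = g * p * g⁻¹ at e
    rw [e] at h
    calc g⁻¹ * f (el 0) * g * p = g⁻¹ * (f (el 0) * (g * p * g⁻¹)) * g := by group
      _ = g⁻¹ * (g * p * g⁻¹ * f (el 0)) * g := by rw [h]
      _ = p * (g⁻¹ * f (el 0) * g) := by group
  rcases key with e | e
  · have : f (el 0) = f 1 := by
      rw [map_one]
      calc f (el 0) = g * (g⁻¹ * f (el 0) * g) * g⁻¹ := by group
        _ = 1 := by rw [e]; group
    exact absurd (f.injective this) ThRep.a_ne_one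
  · calc f (el 0) = g * (g⁻¹ * f (el 0) * g) * g⁻¹ := by group
      _ = g * el 0 * g⁻¹ := by rw [e]

/-- An automorphism fixing a, restricted to the centraliser. -/
noncomputable def restrict (f : Cfsg.Spor.Th ≃* Cfsg.Spor.Th) (hf : f (el 0) = el 0) :
    Hs ≃* Hs where
  toFun x := ⟨f x, by
    refine (cent_eq hC).le (Subgroup.mem_centralizer_singleton_iff.2 ?_)
    rw [← hf, ← map_mul, ← map_mul, ((commute_a x.2).symm).eq]⟩
  invFun x := ⟨f.symm x, by
    refine (cent_eq hC).le (Subgroup.mem_centralizer_singleton_iff.2 ?_)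
    rw [show el 0 = f.symm (el 0) by rw [MulEquiv.eq_symm_apply, hf], ← map_mul, ← map_mul,
      ((commute_a x.2).symm).eq]⟩
  left_inv x := Subtype.ext (f.symm_apply_apply x)
  right_inv x := Subtype.ext (f.apply_symm_apply x)
  map_mul' x y := Subtype.ext (map_mul f _ _)

theorem fixed_delta {x : Hs} (hx : ∀ g ∈ [4, 8, 10, 12, 14], x * hel g = hel g * x) :
    x = 1 ∨ x = zH ∨ x = hel 4 ∨ x = hel 4 * zH := by
  have hperm : ∀ g ∈ [8, 10, 12, 14], ∀ i, pi x (permE g i) = permE g (pi x i) := by
    intro g hg i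
    have hgL : g ∈ gL := by revert hg; revert g; decide
    have h := congrArg pi (hx g (List.mem_cons_of_mem _ hg))
    rw [map_mul, map_mul, pi_eq (rep_hel hgL)] at h
    exact DFunLike.congr_fun h i
  have hprod : ∀ w : List ℕ, (∀ g ∈ w, g ∈ [8, 10, 12, 14]) →
      ∀ i, pi x ((w.map permE).prod i) = (w.map permE).prod (pi x i) := by
    intro w
    induction w with
    | nil => intro _ i; rfl
    | cons g w ih =>
      intro h i
      rw [List.map_cons, List.prod_cons, Equiv.Perm.mul_apply, Equiv.Perm.mul_apply,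
        hperm g (h g List.mem_cons_self), ih (fun a ha => h a (List.mem_cons_of_mem _ ha))]
  have h0 : pi x 0 = 0 := fix_zero _ fun g hg => by
    rw [← hperm g hg]
    congr 1
    revert hg; revert g; decide
  obtain ⟨hp, hreach, hmove⟩ := path_ok
  have h1 : pi x 1 = 1 := by
    by_contra hne
    obtain ⟨w, hw, hor⟩ := hmove _ hne
    rcases hor with ⟨hw1, hwj⟩ | hj
    · have := hprod w (hp w hw) 1
      rw [hw1] at this
      exact hwj this.symm
    · exact absurd ((pi x).injective (hj.trans h0.symm)) (by decide)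
  have hq : x ∈ Qs := by
    refine (piA_eq_one hC).1 (Subtype.ext (Equiv.ext fun i => ?_))
    rw [coe_piA]
    rcases eq_or_ne i 0 with rfl | hi
    · exact h0
    · obtain ⟨w, hw, e⟩ := hreach i hi
      have := hprod w (hp w hw) 1
      rw [e, h1, e] at this
      exact this
  obtain ⟨v, hv, e⟩ := hq
  have hfix : ∀ r ∈ [3, 4, 5, 6], imgN r 8 v = v := by
    intro r hr
    have hr7 : r < 7 := by simp at hr; omega
    have hg : gL.getD r 0 ∈ [4, 8, 10, 12, 14] := by revert hr; revert r; decide
    have h := congrArg bar (hx _ hg)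
    rw [map_mul, map_mul, e, conj_class hr7 le_rfl v] at h
    exact (eb_inj hv (imgN_lt hr7 le_rfl _) (mul_right_cancel h)).symm
  have h8 := List.all_eq_true.1 c_fix v (List.mem_range.2 hv)
  simp only [Bool.or_eq_true, Nat.beq_eq, List.any_eq_true, Bool.not_eq_true'] at h8
  rcases h8 with (h8 | h8) | ⟨r, hr, h8⟩
  · rw [h8, eb_zero] at e
    exact (bar_eq_one.1 e).imp_right Or.inl
  · have hc : eb 8 1 = bar (hel 4) := by
      rw [show (1 : ℕ) = 2 ^ 0 by norm_num, eb_pow 0 (by norm_num),
        show qw 0 = [4] from by decide +kernel]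
      simp [hev]
    rw [h8, hc] at e
    rcases bar_eq_one.1 (show bar ((hel 4)⁻¹ * x) = 1 by
      rw [map_mul, map_inv, e, inv_mul_cancel]) with h | h
    · exact Or.inr (Or.inr (Or.inl (inv_mul_eq_one.1 h).symm))
    · exact Or.inr (Or.inr (Or.inr (inv_mul_eq_iff_eq_mul.1 h)))
  · rw [hfix r hr, Nat.beq_refl] at h8; exact Bool.noConfusion h8

/-- An automorphism fixing the seven letters is inner. -/
theorem inner_of_fixed (f : Cfsg.Spor.Th ≃* Cfsg.Spor.Th) (hf : ∀ g ∈ gL, f (el g) = el g) :
    ∃ g : Cfsg.Spor.Th, f = MulAut.conj g := by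
  have k : ∀ {u v : List ℕ}, sameM u v = true → ev u = ev v := fun h => ev_eq h
  set h := ev hW with hdef
  have ka : h * el 0 = el 4 * h := by simpa [ev_append, ev_cons, ev_nil] using k h_a
  have kc : h * el 4 = el 0 * h := by simpa [ev_append, ev_cons, ev_nil] using k h_c
  have ke : h * el 8 = el 8 * h := by simpa [ev_append, ev_cons, ev_nil] using k h_e
  have ks : h * el 10 = el 10 * h := by simpa [ev_append, ev_cons, ev_nil] using k h_s
  have kt : h * el 12 = el 12 * h := by simpa [ev_append, ev_cons, ev_nil] using k h_t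
  have ku : el 14 * h = h * (el 14 * el 8) := by
    have := k h_u
    rwa [ev_append, ev_append, ev_cons 14 [8], ev1, ev1] at this
  have kk : h * h = 1 := by simpa [ev_append, ev_nil] using k h_sq
  have hinv : h⁻¹ = h := inv_eq_of_mul_eq_one_right kk
  have fh : ∀ {x y : Cfsg.Spor.Th}, h * x = y * h → f x = x → f y = y → f h * x = y * f h :=
    fun {x y} e ex ey => by
      have := congrArg f e
      rwa [map_mul, map_mul, ex, ey] at this
  -- the quotient of the two images centralises the letters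
  set δ := f h * h with hδ
  have hδc : ∀ {x y : Cfsg.Spor.Th}, h * x = y * h → f x = x → f y = y → δ * y = y * δ := by
    intro x y e ex ey
    have e' : h * y = x * h := by
      calc h * y = h * y * (h * h) := by rw [kk, mul_one]
        _ = h * (h * x) * h := by rw [e]; group
        _ = x * h := by rw [← mul_assoc h, kk, one_mul]
    calc δ * y = f h * (h * y) := by rw [hδ, mul_assoc]
      _ = f h * x * h := by rw [e', mul_assoc]
      _ = y * δ := by rw [fh e ex ey, hδ, mul_assoc]
  have f0 := hf 0 (by decide)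
  have f4 := hf 4 (by decide)
  have dH : δ ∈ Hs := by
    rw [← cent_eq hC]
    exact Subgroup.mem_centralizer_singleton_iff.2 (hδc kc f4 f0)
  have du : δ * el 14 = el 14 * δ := by
    have e' : h * el 14 = el 14 * el 8 * h := by
      calc h * el 14 = h * (el 14 * h) * h := by rw [mul_assoc, mul_assoc, kk, mul_one]
        _ = el 14 * el 8 * h := by rw [ku, ← mul_assoc h, kk, one_mul]
    have e'' := congrArg f ku
    rw [map_mul, map_mul, map_mul, hf 14 (by decide), hf 8 (by decide)] at e''
    calc δ * el 14 = f h * (h * el 14) := by rw [hδ, mul_assoc]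
      _ = f h * (el 14 * el 8) * h := by rw [e']; group
      _ = el 14 * δ := by rw [← e'', hδ, mul_assoc]
  have cases4 := fixed_delta hC (x := ⟨δ, dH⟩) (fun g hg => Subtype.ext (by
    rw [Subgroup.coe_mul, Subgroup.coe_mul,
      coe_hel (g := g) (by revert hg; revert g; decide)]
    simp only [List.mem_cons, List.not_mem_nil, or_false] at hg
    rcases hg with rfl | rfl | rfl | rfl | rfl
    exacts [hδc ka f0 f4, hδc ke (hf 8 (by decide)) (hf 8 (by decide)),
      hδc ks (hf 10 (by decide)) (hf 10 (by decide)),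
      hδc kt (hf 12 (by decide)) (hf 12 (by decide)), du]))
  have ksq : f h * f h = 1 := by rw [← map_mul, kk, map_one]
  have fh_eq : f h = δ * h := by rw [hδ, mul_assoc, kk, mul_one]
  have hac : el 0 * el 4 ≠ 1 := fun e => by
    have e' : hel 0 * hel 4 = 1 := Subtype.ext (by
      rw [Subgroup.coe_mul, coe_hel (by decide), coe_hel (by decide)]; exact e)
    have h1 := congrArg bar e'
    rw [map_mul, map_one, show hel 0 = zH from rfl, bar_zH, one_mul,
      show hel 4 = hev (qw 0) by rw [show qw 0 = [4] from by decide +kernel]; simp [hev],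
      ← eb_pow 0 (by norm_num)] at h1
    exact absurd (eb_inj (by norm_num) (by norm_num) (h1.trans (eb_zero 8).symm)) (by norm_num)
  have aa : el 0 * el 0 = 1 := by
    have := congrArg Subtype.val zH_sq
    rwa [Subgroup.coe_mul, coe_zH, Subgroup.coe_one] at this
  have cc : el 4 * el 4 = 1 := by
    have := qq_sq (i := 0) (by norm_num)
    rw [show qw 0 = [4] from by decide +kernel] at this
    simpa [hev, coe_hel (g := 4) (by decide)] using congrArg Subtype.val this
  have hz0 : el 4 * el 0 = el 0 * el 4 :=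
    (commute_a (Subgroup.subset_closure ⟨4, by decide, rfl⟩)).symm.eq
  obtain ⟨g, hgl, hgh⟩ : ∃ g : Cfsg.Spor.Th,
      (∀ r ∈ gL, g * f (el r) * g⁻¹ = el r) ∧ g * f h * g⁻¹ = h := by
    rcases cases4 with e | e | e | e <;> replace e := congrArg Subtype.val e
    · refine ⟨1, fun r hr => by simp [hf r hr], ?_⟩
      rw [fh_eq, show δ = 1 from e]; simp
    · exfalso
      rw [fh_eq, show δ = el 0 from e.trans coe_zH] at ksq
      refine hac ?_
      calc el 0 * el 4 = el 0 * (el 4 * (h * h)) := by rw [kk, mul_one]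
        _ = el 0 * (h * el 0 * h) := by rw [← mul_assoc (el 4), ← ka]
        _ = 1 := by rw [← ksq]; group
    · exfalso
      rw [fh_eq, show δ = el 4 from e.trans (coe_hel (by decide))] at ksq
      refine hac ?_
      calc el 0 * el 4 = el 4 * (el 0 * (h * h)) := by rw [kk, mul_one, hz0]
        _ = el 4 * (h * el 4 * h) := by rw [← mul_assoc (el 0), ← kc]
        _ = 1 := by rw [← ksq]; group
    · refine ⟨el 0, fun r hr => ?_, ?_⟩
      · rw [hf r hr, (commute_a (Subgroup.subset_closure ⟨r, hr, rfl⟩)).eq, mul_inv_cancel_right]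
      · have e' : δ = el 4 * el 0 := by
          rw [show δ = ((hel 4 * zH : Hs) : Cfsg.Spor.Th) from e, Subgroup.coe_mul, coe_zH,
            coe_hel (by decide)]
        rw [fh_eq, e', inv_eq_of_mul_eq_one_right aa]
        calc el 0 * (el 4 * el 0 * h) * el 0 = el 0 * (el 4 * el 0) * (h * el 0) := by group
          _ = el 0 * (el 0 * el 4) * (el 4 * h) := by rw [hz0, ka]
          _ = h := by rw [← mul_assoc (el 0), aa, one_mul, ← mul_assoc, cc, one_mul]
  -- the remaining letter
  refine ⟨g⁻¹, MulEquiv.ext fun x => ?_⟩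
  suffices hk : g * f x * g⁻¹ = x by
    rw [MulAut.conj_apply, inv_inv]
    calc f x = g⁻¹ * (g * f x * g⁻¹) * g := by group
      _ = g⁻¹ * x * g := by rw [hk]
  set F := f.trans (MulAut.conj g)
  have hF : ∀ r ∈ gL, F (el r) = el r := hgl
  have hFh : F h = h := hgh
  have hb : F (el 2) = el 2 := by
    have e1 := k b_word
    have e2 := k b_a
    simp only [ev_append, ev1] at e1
    rw [← hdef] at e1
    have h1 : F (ev [2, 0, 2]) = ev [2, 0, 2] := by
      rw [e1]; simp only [map_mul, hFh, hF 6 (by decide)]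
    have h2 : F (ev [0, 2, 0]) = ev [0, 2, 0] := by rw [← e2]; exact h1
    simp only [ev_cons, ev_nil, mul_one, map_mul, hF 0 (by decide)] at h2
    exact mul_right_cancel (mul_left_cancel h2)
  have hall : F.toMonoidHom = MonoidHom.id _ := PresentedGroup.ext fun y => by
    cases y
    exacts [hF 0 (by decide), hb, hF 4 (by decide), hF 6 (by decide), hF 8 (by decide),
      hF 10 (by decide), hF 12 (by decide), hF 14 (by decide)]
  exact DFunLike.congr_fun hall x

theorem eq_conj (hG : Nat.card Cfsg.Spor.Th = 90745943887872000)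
    (f : Cfsg.Spor.Th ≃* Cfsg.Spor.Th) : ∃ g, f = MulAut.conj g := by
  obtain ⟨g₁, hg₁⟩ := image_a hC hG f
  set f₁ := f.trans (MulAut.conj g₁⁻¹) with hf₁
  have ha : f₁ (el 0) = el 0 := by
    rw [hf₁, MulEquiv.trans_apply, hg₁, MulAut.conj_apply, inv_inv]; group
  obtain ⟨g₂, hg₂⟩ := inner_on_hs hC (α := restrict hC f₁ ha) (Subtype.ext (by
    show f₁ ((zH : Hs) : Cfsg.Spor.Th) = _
    rw [coe_zH, ha]))
  set f₂ := f₁.trans (MulAut.conj (g₂ : Cfsg.Spor.Th)) with hf₂
  obtain ⟨g₃, hg₃⟩ := inner_of_fixed hC f₂ fun r hr => by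
    have := congrArg Subtype.val (hg₂ r hr)
    have e := coe_hel (gL_sub r hr)
    rw [Subgroup.coe_mul, Subgroup.coe_mul, Subgroup.coe_inv, e,
      show ((restrict hC f₁ ha (hel r) : Hs) : Cfsg.Spor.Th) = f₁ (hel r : Hs) from rfl, e] at this
    exact this
  refine ⟨g₁ * (g₂ : Cfsg.Spor.Th)⁻¹ * g₃, MulEquiv.ext fun x => ?_⟩
  have := DFunLike.congr_fun hg₃ x
  simp only [hf₂, hf₁, MulEquiv.trans_apply, MulAut.conj_apply] at this
  rw [MulAut.conj_apply]
  calc f x = g₁ * (g₂ : Cfsg.Spor.Th)⁻¹ * ((g₂ : Cfsg.Spor.Th) * (g₁⁻¹ * f x * g₁⁻¹⁻¹) *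
      (g₂ : Cfsg.Spor.Th)⁻¹) * (g₂ : Cfsg.Spor.Th) * g₁⁻¹ := by group
    _ = _ := by rw [this]; group

/-- The outer automorphism group is trivial. -/
theorem card_out (hG : Nat.card Cfsg.Spor.Th = 90745943887872000) :
    Nat.card (Cfsg.Out Cfsg.Spor.Th) = 1 := by
  rw [Nat.card_eq_one_iff_unique]
  refine ⟨⟨fun a b => ?_⟩, ⟨1⟩⟩
  obtain ⟨f, rfl⟩ := QuotientGroup.mk_surjective a
  obtain ⟨f', rfl⟩ := QuotientGroup.mk_surjective b
  rw [QuotientGroup.eq]
  obtain ⟨g, hg⟩ := eq_conj hC hG (f⁻¹ * f')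
  exact ⟨g, hg.symm⟩

end CfsgLib.ThOut
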