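import Cfsg.Agent.Lib.ThOut.Coord

/-!
# Checked facts for the automorphisms
-/

set_option autoImplicit false
set_option maxRecDepth 100000

namespace CfsgLib.ThOut

/-- A word for the conjugate of ac by b. -/
def hW : List ℕ := [2, 0, 4, 2]

theorem rel_s : sameM (List.replicate 7 10) [] = true := by decide +kernel
theorem rel_t : sameM (List.replicate 3 12) [] = true := by decide +kernel
theorem rel_de : sameM [6, 8, 6, 8, 6, 8] [] = true := by decide +kernel
theorem rel_es : sameM [8, 11, 8, 10] [11, 11, 11, 8, 10, 10, 10] = true := by decide +kernel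
theorem rel_us : sameM [14, 10, 14, 10, 14, 10] [0, 4] = true := by decide +kernel
theorem h_a : sameM (hW ++ [0]) ([4] ++ hW) = true := by decide +kernel
theorem h_c : sameM (hW ++ [4]) ([0] ++ hW) = true := by decide +kernel
theorem h_e : sameM (hW ++ [8]) ([8] ++ hW) = true := by decide +kernel
theorem h_s : sameM (hW ++ [10]) ([10] ++ hW) = true := by decide +kernel
theorem h_t : sameM (hW ++ [12]) ([12] ++ hW) = true := by decide +kernel
theorem h_u : sameM ([14] ++ hW) (hW ++ [14, 8]) = true := by decide +kernel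
theorem h_sq : sameM (hW ++ hW) [] = true := by decide +kernel
theorem b_a : sameM [2, 0, 2] [0, 2, 0] = true := by decide +kernel
theorem b_word : sameM [2, 0, 2]
    (hW ++ [6] ++ hW ++ [6] ++ hW ++ [6] ++ hW ++ [6]) = true := by decide +kernel

/-- The image of a code under a word. -/
def imgW : List ℕ → ℕ → ℕ
  | [], v => v
  | g :: w, v => imgN (gL.idxOf g) 8 (imgW w v)

/-- The image of a code, for the checks. -/
theorem nine_fix : imgW nineW' 3 = 3 ∧
    ((List.range 256).all fun w => Nat.beq w 0 || !(Nat.beq (imgW nineW w) w)) = true := by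
  decide +kernel

theorem c_fix : ((List.range 256).all fun w => Nat.beq w 0 || Nat.beq w 1 ||
    ([3, 4, 5, 6].any fun r => !(Nat.beq (imgN r 8 w) w))) = true := by
  decide +kernel

theorem spread_ok : imgN 2 8 1 = 2 ∧ imgN 3 8 2 = 4 ∧ imgN 4 8 4 = 8 ∧ imgN 3 8 8 = 32 ∧
    imgN 4 8 32 = 16 ∧ imgN 4 8 8 = 64 ∧ imgN 3 8 16 = 128 := by
  decide +kernel

/-- The code with prescribed commutation signs. -/
def pick (p : Fin 8 → Bool) : ℕ :=
  (List.range 8).foldl (fun acc i =>
    acc + (cnt i 8 ((List.finRange 8).foldl (fun x j => x + if p j then 2 ^ j.val else 0) 0) % 2) *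
      2 ^ i) 0

theorem pick_ok : ∀ p : Fin 8 → Bool, pick p < 256 ∧
    ∀ i : Fin 8, cnt i.val 8 (pick p) % 2 = if p i then 1 else 0 := by
  decide +kernel

theorem nine_perm : ∀ x : Fin 9, (nineW'.map permE).prod x =
    (Equiv.swap (0 : Fin 9) 1 * (nineW.map permE).prod * Equiv.swap (0 : Fin 9) 1) x := by
  decide +kernel

theorem fix_zero : ∀ x : Fin 9, (∀ g ∈ [8, 10, 12, 14], permE g x = x) → x = 0 := by
  decide +kernel

/-- Words in e, s, t, u fixing or moving the second point. -/
def pathW : List (List ℕ) :=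
  [[], [10], [8], [10, 8], [8, 10, 8], [10, 10, 8], [12, 10, 8], [8, 10, 10, 8], [8, 12, 10, 8]]

theorem path_ok : (∀ w ∈ pathW, ∀ g ∈ w, g ∈ [8, 10, 12, 14]) ∧
    (∀ x : Fin 9, x ≠ 0 → ∃ w ∈ pathW, (w.map permE).prod (1 : Fin 9) = x) ∧
    (∀ j : Fin 9, j ≠ 1 → ∃ w ∈ pathW, (w.map permE).prod (1 : Fin 9) = 1 ∧
      (w.map permE).prod j ≠ j ∨ j = 0) := by
  decide +kernel

end CfsgLib.ThOut
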