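import Cfsg.Agent.Lib.ThOut.ChecksDefs

/-!
# Kernel checks of equations between words: squares and commutators
-/

set_option autoImplicit false
set_option maxRecDepth 100000

namespace CfsgLib.ThOut

theorem sq0 : sameM (qw 0 ++ qw 0) [] = true := by decide +kernel
theorem sq1 : sameM (qw 1 ++ qw 1) [] = true := by decide +kernel
theorem sq2 : sameM (qw 2 ++ qw 2) [] = true := by decide +kernel
theorem sq3 : sameM (qw 3 ++ qw 3) [] = true := by decide +kernel
theorem sq4 : sameM (qw 4 ++ qw 4) [] = true := by decide +kernel
theorem sq5 : sameM (qw 5 ++ qw 5) [] = true := by decide +kernel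
theorem sq6 : sameM (qw 6 ++ qw 6) [] = true := by decide +kernel
theorem sq7 : sameM (qw 7 ++ qw 7) [] = true := by decide +kernel
theorem com1_0 : comOk 1 0 = true := by decide +kernel
theorem com2_0 : comOk 2 0 = true := by decide +kernel
theorem com2_1 : comOk 2 1 = true := by decide +kernel
theorem com3_0 : comOk 3 0 = true := by decide +kernel
theorem com3_1 : comOk 3 1 = true := by decide +kernel
theorem com3_2 : comOk 3 2 = true := by decide +kernel
theorem com4_0 : comOk 4 0 = true := by decide +kernel
theorem com4_1 : comOk 4 1 = true := by decide +kernel
theorem com4_2 : comOk 4 2 = true := by decide +kernel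
theorem com4_3 : comOk 4 3 = true := by decide +kernel
theorem com5_0 : comOk 5 0 = true := by decide +kernel
theorem com5_1 : comOk 5 1 = true := by decide +kernel
theorem com5_2 : comOk 5 2 = true := by decide +kernel
theorem com5_3 : comOk 5 3 = true := by decide +kernel
theorem com5_4 : comOk 5 4 = true := by decide +kernel
theorem com6_0 : comOk 6 0 = true := by decide +kernel
theorem com6_1 : comOk 6 1 = true := by decide +kernel
theorem com6_2 : comOk 6 2 = true := by decide +kernel
theorem com6_3 : comOk 6 3 = true := by decide +kernel
theorem com6_4 : comOk 6 4 = true := by decide +kernel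
theorem com6_5 : comOk 6 5 = true := by decide +kernel
theorem com7_0 : comOk 7 0 = true := by decide +kernel
theorem com7_1 : comOk 7 1 = true := by decide +kernel
theorem com7_2 : comOk 7 2 = true := by decide +kernel
theorem com7_3 : comOk 7 3 = true := by decide +kernel
theorem com7_4 : comOk 7 4 = true := by decide +kernel
theorem com7_5 : comOk 7 5 = true := by decide +kernel
theorem com7_6 : comOk 7 6 = true := by decide +kernel
theorem sqA_ok : sameM [0, 0] [] = true := by decide +kernel
theorem cen0 : sameM [0, 0] [0, 0] = true := by decide +kernel
theorem cen4 : sameM [0, 4] [4, 0] = true := by decide +kernel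
theorem cen6 : sameM [0, 6] [6, 0] = true := by decide +kernel
theorem cen8 : sameM [0, 8] [8, 0] = true := by decide +kernel
theorem cen10 : sameM [0, 10] [10, 0] = true := by decide +kernel
theorem cen12 : sameM [0, 12] [12, 0] = true := by decide +kernel
theorem cen14 : sameM [0, 14] [14, 0] = true := by decide +kernel

end CfsgLib.ThOut
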