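import Cfsg.Agent.Lib.ThOut.ChecksDefs

/-!
# Kernel checks of equations between words: conjugates, last rows
-/

set_option autoImplicit false
set_option maxRecDepth 100000

namespace CfsgLib.ThOut

theorem conj4_0 : conjOk 4 0 = true := by decide +kernel
theorem conj4_1 : conjOk 4 1 = true := by decide +kernel
theorem conj4_2 : conjOk 4 2 = true := by decide +kernel
theorem conj4_3 : conjOk 4 3 = true := by decide +kernel
theorem conj4_4 : conjOk 4 4 = true := by decide +kernel
theorem conj4_5 : conjOk 4 5 = true := by decide +kernel
theorem conj4_6 : conjOk 4 6 = true := by decide +kernel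
theorem conj4_7 : conjOk 4 7 = true := by decide +kernel
theorem conj5_0 : conjOk 5 0 = true := by decide +kernel
theorem conj5_1 : conjOk 5 1 = true := by decide +kernel
theorem conj5_2 : conjOk 5 2 = true := by decide +kernel
theorem conj5_3 : conjOk 5 3 = true := by decide +kernel
theorem conj5_4 : conjOk 5 4 = true := by decide +kernel
theorem conj5_5 : conjOk 5 5 = true := by decide +kernel
theorem conj5_6 : conjOk 5 6 = true := by decide +kernel
theorem conj5_7 : conjOk 5 7 = true := by decide +kernel
theorem conj6_0 : conjOk 6 0 = true := by decide +kernel
theorem conj6_1 : conjOk 6 1 = true := by decide +kernel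
theorem conj6_2 : conjOk 6 2 = true := by decide +kernel
theorem conj6_3 : conjOk 6 3 = true := by decide +kernel
theorem conj6_4 : conjOk 6 4 = true := by decide +kernel
theorem conj6_5 : conjOk 6 5 = true := by decide +kernel
theorem conj6_6 : conjOk 6 6 = true := by decide +kernel
theorem conj6_7 : conjOk 6 7 = true := by decide +kernel

end CfsgLib.ThOut
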