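import Cfsg.Agent.Lib.ThOut.ChecksConjA
import Cfsg.Agent.Lib.ThOut.ChecksConjB
import Cfsg.Agent.Lib.ThOut.ChecksCom

/-!
# The checked equations between words
-/

set_option autoImplicit false
set_option maxRecDepth 100000

namespace CfsgLib.ThOut

theorem conj_ok {r i : ℕ} (hr : r < 7) (hi : i < 8) : conjOk r i = true := by
  interval_cases r <;> interval_cases i
  exacts [conj0_0, conj0_1, conj0_2, conj0_3, conj0_4, conj0_5, conj0_6, conj0_7, conj1_0, conj1_1,
    conj1_2, conj1_3, conj1_4, conj1_5, conj1_6, conj1_7, conj2_0, conj2_1, conj2_2, conj2_3,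
    conj2_4, conj2_5, conj2_6, conj2_7, conj3_0, conj3_1, conj3_2, conj3_3, conj3_4, conj3_5,
    conj3_6, conj3_7, conj4_0, conj4_1, conj4_2, conj4_3, conj4_4, conj4_5, conj4_6, conj4_7,
    conj5_0, conj5_1, conj5_2, conj5_3, conj5_4, conj5_5, conj5_6, conj5_7, conj6_0, conj6_1,
    conj6_2, conj6_3, conj6_4, conj6_5, conj6_6, conj6_7]

theorem sq_ok {i : ℕ} (hi : i < 8) : sameM (qw i ++ qw i) [] = true := by
  interval_cases i
  exacts [sq0, sq1, sq2, sq3, sq4, sq5, sq6, sq7]

theorem com_ok {i j : ℕ} (hi : i < 8) (hj : j < i) : comOk i j = true := by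
  interval_cases i <;> interval_cases j
  exacts [com1_0, com2_0, com2_1, com3_0, com3_1, com3_2, com4_0, com4_1, com4_2, com4_3, com5_0,
    com5_1, com5_2, com5_3, com5_4, com6_0, com6_1, com6_2, com6_3, com6_4, com6_5, com7_0, com7_1,
    com7_2, com7_3, com7_4, com7_5, com7_6]

theorem cen_ok {g : ℕ} (hg : g ∈ gL) : sameM [0, g] [g, 0] = true := by
  simp only [gL, List.mem_cons, List.not_mem_nil, or_false] at hg
  rcases hg with rfl | rfl | rfl | rfl | rfl | rfl | rfl
  exacts [cen0, cen4, cen6, cen8, cen10, cen12, cen14]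

end CfsgLib.ThOut
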