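import Cfsg.Agent.Lib.ThOut.ChecksDefs

/-!
# Kernel checks of equations between words: conjugates, first rows
-/

set_option autoImplicit false
set_option maxRecDepth 100000

namespace CfsgLib.ThOut

theorem conj0_0 : conjOk 0 0 = true := by decide +kernel
theorem conj0_1 : conjOk 0 1 = true := by decide +kernel
theorem conj0_2 : conjOk 0 2 = true := by decide +kernel
theorem conj0_3 : conjOk 0 3 = true := by decide +kernel
theorem conj0_4 : conjOk 0 4 = true := by decide +kernel
theorem conj0_5 : conjOk 0 5 = true := by decide +kernel
theorem conj0_6 : conjOk 0 6 = true := by decide +kernel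
theorem conj0_7 : conjOk 0 7 = true := by decide +kernel
theorem conj1_0 : conjOk 1 0 = true := by decide +kernel
theorem conj1_1 : conjOk 1 1 = true := by decide +kernel
theorem conj1_2 : conjOk 1 2 = true := by decide +kernel
theorem conj1_3 : conjOk 1 3 = true := by decide +kernel
theorem conj1_4 : conjOk 1 4 = true := by decide +kernel
theorem conj1_5 : conjOk 1 5 = true := by decide +kernel
theorem conj1_6 : conjOk 1 6 = true := by decide +kernel
theorem conj1_7 : conjOk 1 7 = true := by decide +kernel
theorem conj2_0 : conjOk 2 0 = true := by decide +kernel
theorem conj2_1 : conjOk 2 1 = true := by decide +kernel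
theorem conj2_2 : conjOk 2 2 = true := by decide +kernel
theorem conj2_3 : conjOk 2 3 = true := by decide +kernel
theorem conj2_4 : conjOk 2 4 = true := by decide +kernel
theorem conj2_5 : conjOk 2 5 = true := by decide +kernel
theorem conj2_6 : conjOk 2 6 = true := by decide +kernel
theorem conj2_7 : conjOk 2 7 = true := by decide +kernel
theorem conj3_0 : conjOk 3 0 = true := by decide +kernel
theorem conj3_1 : conjOk 3 1 = true := by decide +kernel
theorem conj3_2 : conjOk 3 2 = true := by decide +kernel
theorem conj3_3 : conjOk 3 3 = true := by decide +kernel
theorem conj3_4 : conjOk 3 4 = true := by decide +kernel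
theorem conj3_5 : conjOk 3 5 = true := by decide +kernel
theorem conj3_6 : conjOk 3 6 = true := by decide +kernel
theorem conj3_7 : conjOk 3 7 = true := by decide +kernel

end CfsgLib.ThOut
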