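import Cfsg.Agent.Lib.ThRep.MatCheck
import Cfsg.Agent.Lib.ThOut.Words

/-!
# The equations between words to be checked
-/

set_option autoImplicit false
set_option maxRecDepth 100000

namespace CfsgLib.ThOut

/-- The word of a factor. -/
def qw (i : ℕ) : List ℕ := qW.getD i []

/-- The product of the first factors selected by the bits of `v`. -/
def selW : ℕ → ℕ → List ℕ
  | 0, _ => []
  | n + 1, v => selW n v ++ (if v.testBit n then qw n else [])

/-- The word of a code. -/
def qe (j : ℕ) : List ℕ := selW 8 (j / 2) ++ (if j.testBit 0 then [0] else [])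

/-- The code of a conjugate of a factor. -/
def conjC (r i : ℕ) : ℕ := (conjT.getD r []).getD i 0

/-- The conjugate of a factor by a letter. -/
noncomputable def conjOk (r i : ℕ) : Bool :=
  sameM (gL.getD r 0 :: qw i) (qe (conjC r i) ++ [gL.getD r 0])

/-- The commutator of two factors. -/
noncomputable def comOk (i j : ℕ) : Bool := sameM (qw i ++ qw j) (qw j ++ qw i ++ [0])

end CfsgLib.ThOut
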