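import Cfsg.Agent.Lib.ThOut.Checks

/-!
# Coordinates on the normal two-group

In the group generated by a, c, d, e, s, t, u the eight conjugates of c are involutions which
commute in pairs up to a. Modulo a they span an elementary abelian group of order 256, which the
seven generators normalise.
-/

set_option autoImplicit false
set_option maxRecDepth 100000

namespace CfsgLib.ThOut

open Cfsg.Spor

attribute [local irreducible] qW conjT blocks sameM

/-- The letters used. -/
def hL : List ℕ := [0, 4, 6, 8, 10, 11, 12, 13, 14, 15]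

/-- The group generated by the seven letters. -/
def Hs : Subgroup Cfsg.Spor.Th := Subgroup.closure (el '' {g | g ∈ gL})

theorem el_mem {g : ℕ} (hg : g ∈ hL) : el g ∈ Hs := by
  have h : ∀ g ∈ gL, el g ∈ Hs := fun g hg => Subgroup.subset_closure ⟨g, hg, rfl⟩
  simp only [hL, List.mem_cons, List.not_mem_nil, or_false] at hg
  rcases hg with rfl | rfl | rfl | rfl | rfl | rfl | rfl | rfl | rfl | rfl
  all_goals first
    | exact h _ (by decide)
    | exact Subgroup.inv_mem _ (h 10 (by decide))
    | exact Subgroup.inv_mem _ (h 12 (by decide))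
    | exact Subgroup.inv_mem _ (h 14 (by decide))

theorem gL_sub : ∀ g ∈ gL, g ∈ hL := by decide

/-- The element of a letter in the subgroup. -/
noncomputable def hel (g : ℕ) : Hs := if h : g ∈ hL then ⟨el g, el_mem h⟩ else 1

/-- The element of a word in the subgroup. -/
noncomputable def hev (w : List ℕ) : Hs := (w.map hel).prod

/-- The word uses only the allowed letters. -/
def okW (w : List ℕ) : Bool := w.all fun g => hL.contains g

theorem hev_nil : hev [] = 1 := rfl

theorem hev_cons (g : ℕ) (w : List ℕ) : hev (g :: w) = hel g * hev w := by simp [hev]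

theorem hev_append (u w : List ℕ) : hev (u ++ w) = hev u * hev w := by simp [hev]

theorem coe_hel {g : ℕ} (hg : g ∈ hL) : ((hel g : Hs) : Cfsg.Spor.Th) = el g := by
  rw [hel, dif_pos hg]

theorem coe_hev : ∀ {w : List ℕ}, okW w = true → ((hev w : Hs) : Cfsg.Spor.Th) = ev w
  | [], _ => by simp [hev_nil, ev_nil]
  | g :: w, h => by
    simp only [okW, List.all_cons, Bool.and_eq_true, List.contains_iff_mem] at h
    rw [hev_cons, ev_cons, Subgroup.coe_mul, coe_hel h.1, coe_hev (by simpa [okW] using h.2)]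

theorem okW_append {u v : List ℕ} : okW (u ++ v) = true ↔ okW u = true ∧ okW v = true := by
  simp [okW, List.all_append]

theorem okW_qw : ∀ i < 8, okW (qw i) = true := by decide +kernel

theorem okW_selW : ∀ {n : ℕ}, n ≤ 8 → ∀ v, okW (selW n v) = true
  | 0, _, _ => rfl
  | n + 1, h, v => by
    rw [selW, okW_append]
    refine ⟨okW_selW (by omega) v, ?_⟩
    split_ifs
    exacts [okW_qw n (by omega), rfl]

theorem okW_qe (j : ℕ) : okW (qe j) = true := by
  rw [qe, okW_append]
  refine ⟨okW_selW le_rfl _, ?_⟩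
  split_ifs <;> decide

/-- The number of selected factors other than the given one. -/
def cnt (i : ℕ) : ℕ → ℕ → ℕ
  | 0, _ => 0
  | n + 1, v => cnt i n v + if v.testBit n && !(Nat.beq i n) then 1 else 0

/-- The image of a code under a letter, modulo a. -/
def imgN (r : ℕ) : ℕ → ℕ → ℕ
  | 0, _ => 0
  | n + 1, v => imgN r n v ^^^ if v.testBit n then conjC r n / 2 else 0

theorem conj_lt : ∀ r < 7, ∀ i < 8, conjC r i / 2 < 256 := by decide +kernel

theorem imgN_lt {r : ℕ} (hr : r < 7) : ∀ {n : ℕ}, n ≤ 8 → ∀ v, imgN r n v < 256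
  | 0, _, _ => by simp [imgN]
  | n + 1, h, v => by
    rw [imgN]
    refine Nat.xor_lt_two_pow (n := 8) (imgN_lt hr (by omega) v) ?_
    split_ifs
    exacts [conj_lt r hr n (by omega), by norm_num]

theorem even_cnt : ((List.range 256).all fun v =>
    Nat.beq v 0 || (List.range 8).any fun i => Nat.beq (cnt i 8 v % 2) 1) = true := by
  decide +kernel

section

variable [IsSimpleGroup Cfsg.Spor.Th]

theorem hev_eq {u v : List ℕ} (hu : okW u = true) (hv : okW v = true) (h : sameM u v = true) :
    hev u = hev v :=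
  Subtype.ext (by rw [coe_hev hu, coe_hev hv, ev_eq h])

theorem commute_a {x : Cfsg.Spor.Th} (hx : x ∈ Hs) : Commute (el 0) x := by
  induction hx using Subgroup.closure_induction with
  | mem x hx =>
    obtain ⟨g, hg, rfl⟩ := hx
    have := ev_eq (cen_ok hg)
    simpa [ev, Commute, SemiconjBy] using this
  | one => exact Commute.one_right _
  | mul x y _ _ h1 h2 => exact h1.mul_right h2
  | inv x _ h => exact h.inv_right

/-- The involution a. -/
noncomputable def zH : Hs := hel 0

theorem coe_zH : ((zH : Hs) : Cfsg.Spor.Th) = el 0 := coe_hel (by decide)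

theorem zH_comm (x : Hs) : zH * x = x * zH := by
  refine Subtype.ext ?_
  rw [Subgroup.coe_mul, Subgroup.coe_mul, coe_zH]
  exact commute_a x.2

theorem zH_sq : zH * zH = 1 := by
  have := hev_eq (u := [0, 0]) (v := []) (by decide) rfl sqA_ok
  simpa [hev, zH] using this

theorem zH_ne : zH ≠ 1 := fun h => by
  have e := congrArg (fun x : Hs => (x : Cfsg.Spor.Th)) h
  simp only [coe_zH, Subgroup.coe_one] at e
  exact ThRep.a_ne_one e

/-- The group of order two of a. -/
noncomputable def Zs : Subgroup Hs := Subgroup.zpowers zH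

instance zs_normal : Zs.Normal where
  conj_mem n hn g := by
    obtain ⟨k, rfl⟩ := hn
    have : Commute g (zH ^ k) := Commute.zpow_right (zH_comm g).symm k
    show g * zH ^ k * g⁻¹ ∈ Zs
    rw [this.eq, mul_inv_cancel_right]
    exact ⟨k, rfl⟩

theorem mem_Zs {x : Hs} : x ∈ Zs ↔ x = 1 ∨ x = zH := by
  constructor
  · rintro ⟨k, rfl⟩
    show zH ^ k = 1 ∨ zH ^ k = zH
    rcases Int.even_or_odd' k with ⟨m, rfl | rfl⟩
    · left; rw [zpow_mul, show zH ^ (2 : ℤ) = 1 by rw [zpow_two, zH_sq], one_zpow]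
    · right; rw [zpow_add_one, zpow_mul, show zH ^ (2 : ℤ) = 1 by rw [zpow_two, zH_sq], one_zpow,
        one_mul]
  · rintro (rfl | rfl)
    exacts [one_mem _, Subgroup.mem_zpowers _]

/-- The projection modulo a. -/
noncomputable def bar : Hs →* Hs ⧸ Zs := QuotientGroup.mk' Zs

theorem bar_eq_one {x : Hs} : bar x = 1 ↔ x = 1 ∨ x = zH := by
  rw [bar, QuotientGroup.mk'_apply, QuotientGroup.eq_one_iff, mem_Zs]

theorem bar_zH : bar zH = 1 := bar_eq_one.2 (Or.inr rfl)

/-- The class of a product of factors. -/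
noncomputable def eb (n v : ℕ) : Hs ⧸ Zs := bar (hev (selW n v))

theorem qq_comm {i j : ℕ} (hi : i < 8) (hj : j < 8) (hij : i ≠ j) :
    hev (qw i) * hev (qw j) = hev (qw j) * hev (qw i) * zH := by
  have h : ∀ {i j : ℕ}, i < 8 → j < i →
      hev (qw i) * hev (qw j) = hev (qw j) * hev (qw i) * zH := by
    intro i j hi hj
    have := hev_eq (u := qw i ++ qw j) (v := qw j ++ qw i ++ [0])
      (okW_append.2 ⟨okW_qw i hi, okW_qw j (by omega)⟩)
      (okW_append.2 ⟨okW_append.2 ⟨okW_qw j (by omega), okW_qw i hi⟩, by decide⟩) (com_ok hi hj)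
    simpa [hev_append, hev, zH, mul_assoc] using this
  rcases Nat.lt_or_gt_of_ne hij with hlt | hlt
  · rw [h hj hlt, mul_assoc _ zH zH, zH_sq, mul_one]
  · exact h hi hlt

theorem qq_sq {i : ℕ} (hi : i < 8) : hev (qw i) * hev (qw i) = 1 := by
  have := hev_eq (okW_append.2 ⟨okW_qw i hi, okW_qw i hi⟩) (v := []) rfl (sq_ok hi)
  rwa [hev_append, hev_nil] at this

theorem sel_comm {i : ℕ} (hi : i < 8) : ∀ {n : ℕ}, n ≤ 8 → ∀ v,
    hev (qw i) * hev (selW n v) = hev (selW n v) * hev (qw i) * zH ^ cnt i n v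
  | 0, _, v => by simp [selW, cnt, hev_nil]
  | n + 1, h, v => by
    have hz : ∀ (k : ℕ) (x : Hs), zH ^ k * x = x * zH ^ k :=
      fun k x => (Commute.pow_left (zH_comm x) k).eq
    rw [selW, hev_append, ← mul_assoc, sel_comm hi (by omega) v, cnt, pow_add]
    cases v.testBit n
    · simp [hev_nil]
    · simp only [↓reduceIte, Bool.true_and]
      rw [mul_assoc _ (zH ^ cnt i n v), hz, ← mul_assoc, mul_assoc (hev (selW n v)) (hev (qw i))]
      by_cases hin : i = n
      · subst hin
        simp [mul_assoc]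
      · rw [qq_comm hi (by omega) hin]
        have hb : Nat.beq i n = false := Bool.eq_false_iff.2 fun e => hin (Nat.eq_of_beq_eq_true e)
        simp only [hb, Bool.not_false, ↓reduceIte, pow_one, mul_assoc, hz]

theorem qb_comm {i : ℕ} (hi : i < 8) {n : ℕ} (hn : n ≤ 8) (v : ℕ) :
    Commute (bar (hev (qw i))) (eb n v) := by
  show _ * _ = _
  rw [eb, ← map_mul, sel_comm hi hn v, map_mul, map_pow, bar_zH, one_pow, mul_one, map_mul]

theorem eb_succ (n v : ℕ) :
    eb (n + 1) v = eb n v * if v.testBit n then bar (hev (qw n)) else 1 := by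
  rw [eb, selW, hev_append, map_mul]
  split_ifs <;> simp [eb, hev_nil]

theorem eb_xor : ∀ {n : ℕ}, n ≤ 8 → ∀ v w, eb n (v ^^^ w) = eb n v * eb n w
  | 0, _, v, w => by simp [eb, selW, hev_nil]
  | n + 1, h, v, w => by
    rw [eb_succ, eb_succ, eb_succ, eb_xor (by omega) v w, Nat.testBit_xor]
    have hc := qb_comm (i := n) (by omega) (by omega : n ≤ 8) w
    have hs : bar (hev (qw n)) * bar (hev (qw n)) = 1 := by
      rw [← map_mul, qq_sq (by omega), map_one]
    cases v.testBit n <;> cases w.testBit n <;>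
      simp only [bne, beq_self_eq_true, Bool.not_true, ↓reduceIte, Bool.false_eq_true, mul_one,
        Bool.false_beq, Bool.not_false, Bool.true_beq, mul_assoc]
    · rw [hc.eq]
    · rw [← mul_assoc (bar (hev (qw n))), hc.eq, mul_assoc, hs, mul_one]

theorem eb_zero : ∀ n : ℕ, eb n 0 = 1
  | 0 => by simp [eb, selW, hev_nil]
  | n + 1 => by rw [eb_succ, eb_zero n]; simp

theorem eb_sq {n : ℕ} (hn : n ≤ 8) (v : ℕ) : eb n v * eb n v = 1 := by
  rw [← eb_xor hn, Nat.xor_self, eb_zero]

theorem eb_comm {n : ℕ} (hn : n ≤ 8) (v w : ℕ) : eb n v * eb n w = eb n w * eb n v := by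
  rw [← eb_xor hn, ← eb_xor hn, Nat.xor_comm]

theorem bar_qe (j : ℕ) : bar (hev (qe j)) = eb 8 (j / 2) := by
  rw [qe, hev_append, map_mul, eb]
  split_ifs
  · rw [show hev [0] = zH by simp [hev, zH], bar_zH, mul_one]
  · rw [hev_nil, map_one, mul_one]

/-- A letter moves a factor as the table says. -/
theorem conj_factor {r i : ℕ} (hr : r < 7) (hi : i < 8) :
    bar (hel (gL.getD r 0)) * bar (hev (qw i)) =
      eb 8 (conjC r i / 2) * bar (hel (gL.getD r 0)) := by
  have hm : gL.getD r 0 ∈ hL := by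
    interval_cases r <;> decide
  have hg1 : okW [gL.getD r 0] = true := by
    simp only [okW, List.all_cons, List.all_nil, Bool.and_true, List.contains_iff_mem]
    exact hm
  have h1 : okW (gL.getD r 0 :: qw i) = true :=
    okW_append (u := [gL.getD r 0]).2 ⟨hg1, okW_qw i hi⟩
  have h2 : okW (qe (conjC r i) ++ [gL.getD r 0]) = true :=
    okW_append.2 ⟨okW_qe _, hg1⟩
  have := hev_eq h1 h2 (conj_ok hr hi)
  rw [hev_cons, hev_append, show hev [gL.getD r 0] = hel (gL.getD r 0) by simp [hev]] at this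
  rw [← map_mul, this, map_mul, bar_qe]

/-- A letter moves every class as the table says. -/
theorem conj_class {r : ℕ} (hr : r < 7) : ∀ {n : ℕ}, n ≤ 8 → ∀ v,
    bar (hel (gL.getD r 0)) * eb n v = eb 8 (imgN r n v) * bar (hel (gL.getD r 0))
  | 0, _, v => by
    rw [imgN, eb_zero, one_mul, eb, selW, hev_nil, map_one, mul_one]
  | n + 1, h, v => by
    rw [eb_succ, ← mul_assoc, conj_class hr (by omega) v, imgN, eb_xor le_rfl]
    split_ifs
    · rw [mul_assoc, conj_factor hr (by omega), mul_assoc]
    · rw [mul_one, eb_zero, mul_one]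

theorem cnt_even {v : ℕ} (hv : v < 256) (h : ∀ i < 8, cnt i 8 v % 2 = 0) : v = 0 := by
  have := List.all_eq_true.1 even_cnt v (List.mem_range.2 hv)
  simp only [Bool.or_eq_true, Nat.beq_eq, List.any_eq_true, List.mem_range] at this
  rcases this with e | ⟨i, hi, e⟩
  · exact e
  · rw [h i hi] at e; exact absurd e (by norm_num)

theorem zH_pow {k : ℕ} (h : zH ^ k = 1) : k % 2 = 0 := by
  have h2 : zH ^ 2 = 1 := by rw [pow_two, zH_sq]
  rw [← Nat.mod_add_div k 2, pow_add, pow_mul, h2, one_pow, mul_one] at h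
  rcases Nat.mod_two_eq_zero_or_one k with e | e
  · exact e
  · rw [e, pow_one] at h; exact absurd h zH_ne

/-- A product of factors commuting with all of them is empty. -/
theorem sel_central {v : ℕ} (hv : v < 256)
    (h : ∀ i < 8, hev (qw i) * hev (selW 8 v) = hev (selW 8 v) * hev (qw i)) : v = 0 := by
  refine cnt_even hv fun i hi => zH_pow ?_
  have := sel_comm hi le_rfl v
  rw [h i hi] at this
  exact mul_eq_left.1 this.symm

theorem eb_inj {v w : ℕ} (hv : v < 256) (hw : w < 256) (h : eb 8 v = eb 8 w) : v = w := by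
  have h1 : eb 8 (v ^^^ w) = 1 := by rw [eb_xor le_rfl, h, eb_sq le_rfl]
  have hlt : v ^^^ w < 256 := Nat.xor_lt_two_pow (n := 8) hv hw
  have : v ^^^ w = 0 := by
    refine sel_central hlt fun i _ => ?_
    rcases bar_eq_one.1 h1 with e | e
    · rw [e, mul_one, one_mul]
    · rw [e, zH_comm]
  exact Nat.xor_eq_zero_iff.1 this

end

end CfsgLib.ThOut
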