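import Cfsg.Agent.Lib.ThOut.Cent
import Cfsg.Agent.Lib.ThOut.AutChecks

/-!
# Automorphisms of the centraliser of a

An automorphism of the group of the seven letters that fixes a induces one of the alternating
group. The conjugation by a transposition does not occur, as it would interchange two classes of
nine-cycles with different numbers of fixed points on the two-group. After an inner correction the
action on the two-group is trivial, hence so is the automorphism.
-/

set_option autoImplicit false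
set_option maxRecDepth 100000

namespace CfsgLib.ThOut

open Cfsg.Spor Equiv

attribute [local irreducible] qW conjT blocks sameM

variable [IsSimpleGroup Cfsg.Spor.Th] [Finite Cfsg.Spor.Th]

theorem conj_word : ∀ {w : List ℕ}, (∀ g ∈ w, g ∈ gL) → ∀ v < 256,
    imgW w v < 256 ∧ bar (hev w) * eb 8 v = eb 8 (imgW w v) * bar (hev w)
  | [], _, v, hv => ⟨hv, by simp [imgW, hev_nil]⟩
  | g :: w, h, v, hv => by
    obtain ⟨h1, h2⟩ := conj_word (fun a ha => h a (List.mem_cons_of_mem _ ha)) v hv
    have hg : g ∈ gL := h g List.mem_cons_self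
    have hr : gL.idxOf g < 7 := List.idxOf_lt_length_of_mem hg
    refine ⟨imgN_lt hr le_rfl _, ?_⟩
    have := conj_class hr le_rfl (imgW w v)
    rw [show gL.getD (gL.idxOf g) 0 = g by
      rw [List.getD_eq_getElem _ _ (List.idxOf_lt_length_of_mem hg), List.getElem_idxOf]] at this
    rw [hev_cons, map_mul, mul_assoc, h2, ← mul_assoc, this, mul_assoc]
    rfl

theorem eb_pow (i : ℕ) (hi : i < 8) : eb 8 (2 ^ i) = bar (hev (qw i)) := by
  interval_cases i <;> simp [eb, selW, hev_nil, Nat.testBit]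

theorem qw_mem (i : ℕ) (hi : i < 8) : hev (qw i) ∈ Qs :=
  ⟨2 ^ i, Nat.pow_lt_pow_right (by norm_num) hi, (eb_pow i hi).symm⟩

theorem sel_mem {v : ℕ} (hv : v < 256) : hev (selW 8 v) ∈ Qs := ⟨v, hv, rfl⟩

variable (hC : Nat.card (Subgroup.centralizer ({el 0} : Set Cfsg.Spor.Th)) ≤ 92897280)
include hC

theorem image_qs (α : Hs ≃* Hs) {x : Hs} (hx : x ∈ Qs) : α x ∈ Qs := by
  haveI := qs_normal hC
  haveI hs9 : IsSimpleGroup (alternatingGroup (Fin 9)) :=
    alternatingGroup.isSimpleGroup (by simp)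
  set N := Qs.map α.toMonoidHom with hN
  haveI hn : N.Normal := Subgroup.Normal.map (qs_normal hC) _ α.surjective
  have hcard : Nat.card N = 512 := by
    rw [hN, Subgroup.card_map_of_injective α.injective, card_qs]
  rcases (Subgroup.Normal.map hn piA piA_surjective).eq_bot_or_eq_top with hb | ht
  · exact (piA_eq_one hC).1 (Subgroup.mem_bot.1
      (hb ▸ Subgroup.mem_map_of_mem piA (Subgroup.mem_map_of_mem α.toMonoidHom hx)))
  · have h1 := Subgroup.card_map_dvd N piA
    rw [ht, Subgroup.card_top, card_alt, hcard] at h1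
    exact absurd h1 (by norm_num)

theorem pi_congr {x y : Hs} (h : pi x = pi y) : x⁻¹ * y ∈ Qs :=
  (piA_eq_one hC).1 (Subtype.ext (by
    rw [coe_piA, map_mul, map_inv, h, inv_mul_cancel, Subgroup.coe_one]))

/-- The automorphism acts on the nine sets as a permutation. -/
theorem exists_sigma (α : Hs ≃* Hs) : ∃ σ : Perm (Fin 9), ∀ x, pi (α x) = σ * pi x * σ⁻¹ := by
  have hker : ∀ x y, piA x = piA y → piA (α x) = piA (α y) := by
    intro x y h
    have : x⁻¹ * y ∈ Qs := (piA_eq_one hC).1 (by rw [map_mul, map_inv, h, inv_mul_cancel])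
    have := (piA_eq_one hC).2 (image_qs hC α this)
    rwa [map_mul, map_mul, map_inv, map_inv, inv_mul_eq_one] at this
  let β : alternatingGroup (Fin 9) →* alternatingGroup (Fin 9) :=
    MonoidHom.mk' (fun s => piA (α (Function.surjInv piA_surjective s))) fun s t => by
      rw [← map_mul, ← map_mul]
      refine hker _ _ ?_
      rw [map_mul, Function.surjInv_eq piA_surjective, Function.surjInv_eq piA_surjective,
        Function.surjInv_eq piA_surjective]
  have hβ : ∀ x, β (piA x) = piA (α x) := fun x =>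
    hker _ _ (Function.surjInv_eq piA_surjective _)
  have hsur : Function.Surjective β := fun s => by
    obtain ⟨x, rfl⟩ := piA_surjective s
    exact ⟨piA (α.symm x), by rw [hβ, MulEquiv.apply_symm_apply]⟩
  obtain ⟨σ, hσ⟩ := Known.AltAut.exists_conj (n := 9) (by norm_num) (by norm_num)
    (MulEquiv.ofBijective β ⟨(Finite.injective_iff_surjective).2 hsur, hsur⟩)
  refine ⟨σ, fun x => ?_⟩
  have := hσ (piA x)
  change ((β (piA x) : alternatingGroup (Fin 9)) : Perm (Fin 9)) = _ at this
  rwa [hβ, coe_piA, coe_piA] at this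

omit hC in
theorem apply_zs {α : Hs ≃* Hs} (hz : α zH = zH) {x : Hs} (hx : bar x = 1) : bar (α x) = 1 := by
  rcases bar_eq_one.1 hx with e | e <;> rw [e]
  · rw [map_one, map_one]
  · rw [hz, bar_zH]

omit hC in
theorem apply_bar {α : Hs ≃* Hs} (hz : α zH = zH) {x y : Hs} (h : bar x = bar y) :
    bar (α x) = bar (α y) := by
  have := apply_zs hz (x := x⁻¹ * y) (by rw [map_mul, map_inv, h, inv_mul_cancel])
  rwa [map_mul, map_mul, map_inv, map_inv, inv_mul_eq_one] at this

theorem class_image {α : Hs ≃* Hs} {v : ℕ} (hv : v < 256) :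
    ∃ w < 256, bar (α (hev (selW 8 v))) = eb 8 w :=
  image_qs hC α (sel_mem hv)

/-- The conjugation by a transposition is not induced. -/
theorem not_swap {α : Hs ≃* Hs} (hz : α zH = zH) :
    ¬ ∀ x, pi (α x) = Equiv.swap 0 1 * pi x * Equiv.swap 0 1 := by
  intro h
  have hy : ∀ g ∈ nineW', g ∈ gL := by decide
  have hn : ∀ g ∈ nineW, g ∈ gL := by decide
  have e : pi (hev nineW) = pi (α (hev nineW')) := by
    rw [h, pi_hev hy, pi_hev hn, Equiv.ext nine_perm]
    simp [mul_assoc]
  obtain ⟨u, hu, eu⟩ := pi_congr hC e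
  obtain ⟨w, hw, ew⟩ := class_image hC (α := α) (v := 3) (by norm_num)
  obtain ⟨-, h3⟩ := conj_word hy 3 (by norm_num)
  rw [nine_fix.1] at h3
  have h4 : bar (α (hev nineW')) * eb 8 w = eb 8 w * bar (α (hev nineW')) := by
    rw [← ew, ← map_mul, ← map_mul, ← map_mul, ← map_mul]
    exact apply_bar hz (by rw [map_mul, map_mul]; exact h3)
  rw [show α (hev nineW') = hev nineW * ((hev nineW)⁻¹ * α (hev nineW')) by group, map_mul, eu,
    mul_assoc, eb_comm le_rfl u w, ← mul_assoc, ← mul_assoc] at h4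
  have h5 := mul_right_cancel h4
  obtain ⟨hlt, h6⟩ := conj_word hn w hw
  rw [h6] at h5
  have h7 : imgW nineW w = w := eb_inj hlt hw (mul_right_cancel h5)
  have h8 := List.all_eq_true.1 nine_fix.2 w (List.mem_range.2 hw)
  simp only [h7, Bool.or_eq_true, Nat.beq_eq, Bool.not_eq_true', Nat.beq_refl] at h8
  rcases h8 with h8 | h8
  · have : bar (hev (selW 8 3)) = 1 := by
      have h9 := apply_zs (α := α.symm) (by rw [MulEquiv.symm_apply_eq, hz])
        (x := α (hev (selW 8 3))) (by rw [ew, h8, eb_zero])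
      rwa [MulEquiv.symm_apply_apply] at h9
    exact absurd (eb_inj (by norm_num) (by norm_num) (this.trans (eb_zero 8).symm)) (by norm_num)
  · exact Bool.noConfusion h8

/-- An automorphism acting trivially on the nine sets moves no class. -/
theorem class_fixed {β : Hs ≃* Hs} (hβz : β zH = zH) (hπ : ∀ x, pi (β x) = pi x) (i : Fin 8) :
    bar (β (hev (qw i.val))) = bar (hev (qw i.val)) := by
  have hmove : ∀ (r : ℕ), r < 7 → ∀ v < 256, ∀ w < 256, bar (β (hev (selW 8 v))) = eb 8 w →
      bar (β (hev (selW 8 (imgN r 8 v)))) = eb 8 (imgN r 8 w) := by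
    intro r hr v hv w hw e
    obtain ⟨u, -, eu⟩ := pi_congr hC (hπ (hel (gL.getD r 0))).symm
    have h1 := apply_bar hβz (x := hel (gL.getD r 0) * hev (selW 8 v))
      (y := hev (selW 8 (imgN r 8 v)) * hel (gL.getD r 0))
      (by rw [map_mul, map_mul]; exact conj_class hr le_rfl v)
    rw [map_mul β, map_mul β, map_mul bar, map_mul bar, e] at h1
    rw [show β (hel (gL.getD r 0)) =
      hel (gL.getD r 0) * ((hel (gL.getD r 0))⁻¹ * β (hel (gL.getD r 0))) by group, map_mul bar, eu,
      mul_assoc, eb_comm le_rfl u w, ← mul_assoc, conj_class hr le_rfl w, ← mul_assoc] at h1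
    exact (mul_right_cancel (mul_right_cancel h1)).symm
  have h1 : bar (β (hev (selW 8 1))) = eb 8 1 := by
    obtain ⟨w, hw, e⟩ := class_image hC (α := β) (v := 1) (by norm_num)
    have hfix : ∀ r ∈ [3, 4, 5, 6], imgN r 8 w = w := by
      intro r hr
      have hr7 : r < 7 := by simp at hr; omega
      have hr1 : imgN r 8 1 = 1 := by revert hr; revert r; decide +kernel
      have := hmove r hr7 1 (by norm_num) w hw e
      rw [hr1, e] at this
      exact (eb_inj hw (imgN_lt hr7 le_rfl _) this).symm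
    have h8 := List.all_eq_true.1 c_fix w (List.mem_range.2 hw)
    simp only [Bool.or_eq_true, Nat.beq_eq, List.any_eq_true, Bool.not_eq_true'] at h8
    rcases h8 with (h8 | h8) | ⟨r, hr, h8⟩
    · exfalso
      have h9 := apply_zs (α := β.symm) (by rw [MulEquiv.symm_apply_eq, hβz])
        (x := β (hev (selW 8 1))) (by rw [e, h8, eb_zero])
      rw [MulEquiv.symm_apply_apply] at h9
      exact absurd (eb_inj (by norm_num) (by norm_num) (h9.trans (eb_zero 8).symm)) (by norm_num)
    · rw [e, h8]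
    · rw [hfix r hr, Nat.beq_refl] at h8; exact Bool.noConfusion h8
  have hnext : ∀ {r v v' : ℕ}, r < 7 → v < 256 → imgN r 8 v = v' →
      bar (β (hev (selW 8 v))) = eb 8 v → bar (β (hev (selW 8 v'))) = eb 8 v' := by
    rintro r v v' hr hv rfl e
    exact hmove r hr v hv v hv e
  obtain ⟨s1, s2, s3, s5, s4, s6, s7⟩ := spread_ok
  have q1 := hnext (by norm_num) (by norm_num) s1 h1
  have q2 := hnext (by norm_num) (by norm_num) s2 q1
  have q3 := hnext (by norm_num) (by norm_num) s3 q2
  have q5 := hnext (by norm_num) (by norm_num) s5 q3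
  have q4 := hnext (by norm_num) (by norm_num) s4 q5
  have q6 := hnext (by norm_num) (by norm_num) s6 q3
  have q7 := hnext (by norm_num) (by norm_num) s7 q4
  rw [apply_bar hβz (eb_pow i.val i.isLt).symm]
  refine Eq.trans ?_ (eb_pow i.val i.isLt)
  fin_cases i
  exacts [h1, q1, q2, q3, q4, q5, q6, q7]

/-- After a conjugation the two-group is fixed. -/
theorem exists_fixing {β : Hs ≃* Hs} (hβz : β zH = zH) (hπ : ∀ x, pi (β x) = pi x) :
    ∃ x : Hs, ∀ y ∈ Qs, x * β y * x⁻¹ = y := by
  have hall : ∀ i : Fin 8, ∃ b : Bool,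
      β (hev (qw i.val)) = hev (qw i.val) * if b then zH else 1 := by
    intro i
    rcases bar_eq_one.1 (show bar ((hev (qw i.val))⁻¹ * β (hev (qw i.val))) = 1 by
      rw [map_mul, map_inv, class_fixed hC hβz hπ i, inv_mul_cancel]) with e | e
    · exact ⟨false, by rw [if_neg (by decide), mul_one]; exact (inv_mul_eq_one.1 e).symm⟩
    · exact ⟨true, by rw [if_pos rfl]; exact inv_mul_eq_iff_eq_mul.1 e⟩
  choose p hp using hall
  obtain ⟨-, hcnt⟩ := pick_ok p
  refine ⟨hev (selW 8 (pick p)), ?_⟩
  set x := hev (selW 8 (pick p))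
  set γ : Hs ≃* Hs := β.trans (MulAut.conj x)
  have key : ∀ y, γ y = x * β y * x⁻¹ := fun y => rfl
  have hγz : γ zH = zH := by rw [key, hβz, ← zH_comm x, mul_inv_cancel_right]
  have hz2 : zH ^ 2 = 1 := by rw [pow_two, zH_sq]
  have hfixq : ∀ i : Fin 8, γ (hev (qw i.val)) = hev (qw i.val) := by
    intro i
    have hc := sel_comm i.isLt (n := 8) le_rfl (pick p)
    rw [← Nat.mod_add_div (cnt i.val 8 (pick p)) 2, pow_add, pow_mul, hz2, one_pow, mul_one,
      hcnt i] at hc
    rw [key, hp i, mul_inv_eq_iff_eq_mul, hc]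
    cases p i <;> simp [x, mul_assoc]
  have hsel : ∀ n, n ≤ 8 → ∀ v, γ (hev (selW n v)) = hev (selW n v) := by
    intro n
    induction n with
    | zero => intro _ v; simp [selW, hev_nil]
    | succ n ih =>
      intro hn v
      rw [selW, hev_append, map_mul, ih (by omega) v]
      congr 1
      split_ifs
      · exact hfixq ⟨n, by omega⟩
      · simp [hev_nil]
  rintro y ⟨v, hv, e⟩
  rw [← key]
  rcases bar_eq_one.1 (show bar ((hev (selW 8 v))⁻¹ * y) = 1 by
    rw [map_mul, map_inv, e]; exact inv_mul_cancel _) with h | h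
  · rw [← inv_mul_eq_one.1 h, hsel 8 le_rfl v]
  · rw [inv_mul_eq_iff_eq_mul.1 h, map_mul, hsel 8 le_rfl v, hγz]

/-- An automorphism fixing the two-group fixes the seven letters. -/
theorem fixes_letters {γ : Hs ≃* Hs} (hQ : ∀ y ∈ Qs, γ y = y) : ∀ r ∈ gL, γ (hel r) = hel r := by
  have hz2 : zH ^ 2 = 1 := by rw [pow_two, zH_sq]
  have hγz : γ zH = zH := hQ _ ⟨0, by norm_num, by rw [bar_zH, eb_zero]⟩
  have hsign : ∀ y, γ y = y ∨ γ y = y * zH := by
    intro y
    rcases cent_qs hC (x := y⁻¹ * γ y) (fun q hq => by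
      have h1 : y * q * y⁻¹ ∈ Qs := (qs_normal hC).conj_mem q hq y
      have h2 := hQ _ h1
      rw [map_mul, map_mul, map_inv, hQ q hq] at h2
      calc y⁻¹ * γ y * q = y⁻¹ * (γ y * q * (γ y)⁻¹) * γ y := by group
        _ = q * (y⁻¹ * γ y) := by rw [h2]; group) with h | h
    · exact Or.inl (inv_mul_eq_one.1 h).symm
    · exact Or.inr (inv_mul_eq_iff_eq_mul.1 h)
  have hev1 : ∀ g, hev [g] = hel g := fun g => by simp [hev]
  have hodd : ∀ {y : Hs} {k : ℕ}, k % 2 = 1 → y ^ k = 1 → γ y = y := by
    intro y k hk hy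
    refine (hsign y).resolve_right fun e => ?_
    have h := congrArg γ hy
    rw [map_pow, e, map_one, (Commute.mul_pow (zH_comm y).symm k), hy, one_mul,
      ← Nat.mod_add_div k 2, hk, pow_add, pow_mul, hz2, one_pow, mul_one, pow_one] at h
    exact zH_ne h
  have ts : hel 10 ^ 7 = 1 := by
    have := hev_eq (u := List.replicate 7 10) (v := []) (by decide) rfl rel_s
    rwa [hev, List.map_replicate, List.prod_replicate, hev_nil] at this
  have tt : hel 12 ^ 3 = 1 := by
    have := hev_eq (u := List.replicate 3 12) (v := []) (by decide) rfl rel_t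
    rwa [hev, List.map_replicate, List.prod_replicate, hev_nil] at this
  have fs : γ (hel 10) = hel 10 := hodd rfl ts
  have ft : γ (hel 12) = hel 12 := hodd rfl tt
  have i11 : hel 11 = (hel 10)⁻¹ := Subtype.ext (by
    rw [coe_hel (by decide), Subgroup.coe_inv, coe_hel (by decide)]; rfl)
  have hzl : ∀ y y' : Hs, y * zH * y' = y * y' * zH := fun y y' => by
    rw [mul_assoc, zH_comm, mul_assoc]
  have fe : γ (hel 8) = hel 8 := by
    refine (hsign _).resolve_right fun e => ?_
    have h : hel 8 * hel 11 * hel 8 * hel 10 =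
        hel 11 * hel 11 * hel 11 * hel 8 * hel 10 * hel 10 * hel 10 := by
      have := hev_eq (by decide) (by decide) rel_es
      simpa [hev, ← mul_assoc] using this
    have f11 : γ (hel 11) = hel 11 := by rw [i11, map_inv, fs]
    have h' := congrArg γ h
    simp only [map_mul, e, fs, f11, ← mul_assoc, hzl] at h'
    rw [mul_assoc _ zH zH, zH_sq, mul_one, h] at h'
    exact zH_ne (mul_eq_left.1 h'.symm)
  have fd : γ (hel 6) = hel 6 := by
    refine (hsign _).resolve_right fun e => ?_
    have h : (hel 6 * hel 8) ^ 3 = 1 := by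
      have := hev_eq (u := [6, 8, 6, 8, 6, 8]) (v := []) (by decide) rfl rel_de
      simpa [hev, pow_succ, mul_assoc] using this
    have h' := hodd rfl h
    rw [map_mul, e, fe, mul_assoc, zH_comm, ← mul_assoc] at h'
    exact zH_ne (mul_eq_left.1 h')
  have fu : γ (hel 14) = hel 14 := by
    refine (hsign _).resolve_right fun e => ?_
    have h : (hel 14 * hel 10) ^ 3 = hev [0, 4] := by
      have := hev_eq (u := [14, 10, 14, 10, 14, 10]) (v := [0, 4]) (by decide) (by decide) rel_us
      simpa [hev, pow_succ, mul_assoc] using this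
    have h' := congrArg γ h
    have hm : hev [0, 4] ∈ Qs := by
      refine ⟨1, by norm_num, ?_⟩
      rw [show hev [0, 4] = zH * hev (qw 0) by
        rw [show qw 0 = [4] from by decide +kernel]; simp [hev, zH], map_mul, bar_zH, one_mul,
        eb_pow 0 (by norm_num) |>.symm]
      rfl
    rw [hQ _ hm, map_pow, map_mul, e, fs, mul_assoc, zH_comm, ← mul_assoc,
      Commute.mul_pow (zH_comm _).symm, h] at h'
    have h3 : zH ^ 3 = zH := by rw [pow_succ, hz2, one_mul]
    rw [h3] at h'
    exact zH_ne (mul_eq_left.1 h')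
  have fa : γ (hel 0) = hel 0 := hγz
  have fc : γ (hel 4) = hel 4 := by
    have := hQ _ (qw_mem 0 (by norm_num))
    rwa [show qw 0 = [4] from by decide +kernel, hev1] at this
  intro r hr
  simp only [gL, List.mem_cons, List.not_mem_nil, or_false] at hr
  rcases hr with rfl | rfl | rfl | rfl | rfl | rfl | rfl
  exacts [fa, fc, fd, fe, fs, ft, fu]

/-- An automorphism fixing a agrees with a conjugation on the seven letters. -/
theorem inner_on_hs {α : Hs ≃* Hs} (hz : α zH = zH) :
    ∃ g : Hs, ∀ r ∈ gL, g * α (hel r) * g⁻¹ = hel r := by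
  have hconj : ∀ g : Hs, g * zH * g⁻¹ = zH := fun g => by
    rw [← zH_comm, mul_inv_cancel_right]
  obtain ⟨σ, hσ⟩ := exists_sigma hC α
  obtain ⟨g₁, hg₁⟩ : ∃ g : Hs, pi g = σ := by
    rcases Int.units_eq_one_or (Equiv.Perm.sign σ) with hs | hs
    · obtain ⟨g, hg⟩ := piA_surjective ⟨σ, Equiv.Perm.mem_alternatingGroup.2 hs⟩
      exact ⟨g, congrArg Subtype.val hg⟩
    · exfalso
      obtain ⟨g, hg⟩ := piA_surjective ⟨σ * Equiv.swap 0 1, Equiv.Perm.mem_alternatingGroup.2 (by
        rw [map_mul, hs, Equiv.Perm.sign_swap (by decide)]; decide)⟩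
      have hg' : pi g = σ * Equiv.swap 0 1 := congrArg Subtype.val hg
      refine not_swap hC (α := α.trans (MulAut.conj g⁻¹)) ?_ fun x => ?_
      · rw [MulEquiv.trans_apply, hz, MulAut.conj_apply, hconj]
      · rw [MulEquiv.trans_apply, MulAut.conj_apply, map_mul, map_mul, hσ, inv_inv, map_inv, hg',
          mul_inv_rev, Equiv.swap_inv]
        group
  set β : Hs ≃* Hs := α.trans (MulAut.conj g₁⁻¹) with hβ
  have hβz : β zH = zH := by rw [hβ, MulEquiv.trans_apply, hz, MulAut.conj_apply, hconj]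
  have hπ : ∀ x, pi (β x) = pi x := fun x => by
    rw [hβ, MulEquiv.trans_apply, MulAut.conj_apply, map_mul, map_mul, hσ, inv_inv, map_inv, hg₁]
    group
  obtain ⟨x, hx⟩ := exists_fixing hC hβz hπ
  refine ⟨x * g₁⁻¹, fun r hr => ?_⟩
  have h := fixes_letters hC (γ := β.trans (MulAut.conj x)) (fun y hy => hx y hy) r hr
  rw [MulEquiv.trans_apply, MulAut.conj_apply, hβ, MulEquiv.trans_apply, MulAut.conj_apply] at h
  rw [mul_inv_rev]
  simpa [mul_assoc] using h

end CfsgLib.ThOut
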