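import Cfsg.Agent.Lib.ThOut.Inner
import Cfsg.Agent.Lib.PGroup.Extraspecial
import Cfsg.Prelude.Def_Transfer

/-!
# The shape of the centraliser of a

Given the upper bound on its order, the centraliser of a has a normal extraspecial subgroup of
order 512 with quotient the alternating group of degree nine.
-/

set_option autoImplicit false
set_option maxRecDepth 100000

namespace CfsgLib.ThOut

open Cfsg.Spor

attribute [local irreducible] qW conjT blocks sameM

variable [IsSimpleGroup Cfsg.Spor.Th] [Finite Cfsg.Spor.Th]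

theorem orderOf_a : orderOf (el 0) = 2 := by
  have := Fact.mk Nat.prime_two
  refine orderOf_eq_prime ?_ ThRep.a_ne_one
  have h := congrArg Subtype.val zH_sq
  rwa [Subgroup.coe_mul, coe_zH, Subgroup.coe_one, ← pow_two] at h

/-- Squares and commutators of elements of the two-group are powers of a. -/
theorem qs_special {x y : Hs} (hx : x ∈ Qs) (hy : y ∈ Qs) :
    (x * y * x⁻¹ * y⁻¹ = 1 ∨ x * y * x⁻¹ * y⁻¹ = zH) ∧ (x * x = 1 ∨ x * x = zH) := by
  obtain ⟨u, -, eu⟩ := hx
  obtain ⟨v, -, ev⟩ := hy
  refine ⟨bar_eq_one.1 ?_, bar_eq_one.1 ?_⟩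
  · rw [map_mul, map_mul, map_mul, map_inv, map_inv, eu, ev, eb_comm le_rfl u v,
      mul_inv_cancel_right, mul_inv_cancel]
  · rw [map_mul, eu, eb_sq le_rfl]

variable (hC : Nat.card (Subgroup.centralizer ({el 0} : Set Cfsg.Spor.Th)) ≤ 92897280)
include hC

/-- The centraliser of a is of type 2^(1+8).A9. -/
theorem cent_shape :
    ∃ (Q : Subgroup (Subgroup.centralizer ({el 0} : Set Cfsg.Spor.Th))) (_ : Q.Normal),
      Nat.card Q = 2 ^ 9 ∧ Cfsg.IsExtraspecial 2 Q ∧
      Nonempty ((Subgroup.centralizer ({el 0} : Set Cfsg.Spor.Th)) ⧸ Q ≃*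
        alternatingGroup (Fin 9)) := by
  classical
  have := Fact.mk Nat.prime_two
  set e := MulEquiv.subgroupCongr (cent_eq hC)
  set Q := (piA.comp e.toMonoidHom).ker with hQdef
  have mem : ∀ x, x ∈ Q ↔ e x ∈ Qs := fun x =>
    MonoidHom.mem_ker.trans (piA_eq_one hC)
  have hcard : Nat.card Q = 2 ^ 9 := by
    rw [show (2 : ℕ) ^ 9 = 512 by norm_num, ← card_qs]
    exact Nat.card_congr (Equiv.subtypeEquiv e.toEquiv mem)
  refine ⟨Q, MonoidHom.normal_ker _, hcard, ?_,
    ⟨QuotientGroup.quotientKerEquivOfSurjective (piA.comp e.toMonoidHom)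
      (piA_surjective.comp e.surjective)⟩⟩
  have hzQ : zH ∈ Qs := ⟨0, by norm_num, by rw [bar_zH, eb_zero]⟩
  set z : Q := ⟨e.symm zH, (mem _).2 (by rwa [MulEquiv.apply_symm_apply])⟩
  have hcen : ∀ x : Q, x ∈ Subgroup.center Q ↔ x = 1 ∨ x = z := by
    intro x
    constructor
    · intro hx
      rw [Subgroup.mem_center_iff] at hx
      rcases cent_qs hC (x := e x.val) (fun q hq => by
        have h := congrArg (fun w : Q => e w.val)
          (hx ⟨e.symm q, (mem _).2 (by rwa [MulEquiv.apply_symm_apply])⟩)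
        simp only [Subgroup.coe_mul, map_mul, MulEquiv.apply_symm_apply] at h
        exact h.symm) with h | h
      · exact Or.inl (Subtype.ext (e.injective (h.trans (map_one e).symm)))
      · exact Or.inr (Subtype.ext (e.injective (h.trans (e.apply_symm_apply zH).symm)))
    · intro h
      rw [Subgroup.mem_center_iff]
      intro y
      rcases h with rfl | rfl
      · rw [mul_one, one_mul]
      · refine Subtype.ext (e.injective ?_)
        simp only [Subgroup.coe_mul, map_mul, z, MulEquiv.apply_symm_apply]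
        exact (zH_comm _).symm
  have hval : ∀ {x : Q} {w : Hs}, e x.val = w → (w = 1 ∨ w = zH) → x ∈ Subgroup.center Q := by
    rintro x w h (rfl | rfl)
    · exact (hcen x).2 (Or.inl (Subtype.ext (e.injective (h.trans (map_one e).symm))))
    · exact (hcen x).2 (Or.inr (Subtype.ext (e.injective (h.trans (e.apply_symm_apply zH).symm))))
  refine PGroup.isExtraspecial_mk (IsPGroup.of_card (n := 9) hcard) ?_ (fun h => ?_)
    (fun a b => hval (w := e a.val * e b.val * (e a.val)⁻¹ * (e b.val)⁻¹) ?_
      (qs_special ((mem _).1 a.2) ((mem _).1 b.2)).1)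
    (fun a => hval (w := e a.val * e a.val) ?_ (qs_special ((mem _).1 a.2) ((mem _).1 a.2)).2)
  · rw [Nat.card_eq_two_iff]
    refine ⟨⟨1, one_mem _⟩, ⟨z, (hcen z).2 (Or.inr rfl)⟩, fun h => zH_ne ?_, ?_⟩
    · have h' := congrArg (fun w : Subgroup.center Q => e w.val.val) h
      simp only [z, MulEquiv.apply_symm_apply] at h'
      exact h'.symm.trans (map_one e)
    · rw [Set.eq_univ_iff_forall]
      rintro ⟨x, hx⟩
      rcases (hcen x).1 hx with rfl | rfl <;> simp
  · let m : ∀ i < 8, Q := fun i hi =>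
      ⟨e.symm (hev (qw i)), (mem _).2 (by rw [MulEquiv.apply_symm_apply]; exact qw_mem i hi)⟩
    have hab := congrArg (fun w : Q => e w.val)
      (h.is_comm.comm (m 0 (by norm_num)) (m 1 (by norm_num)))
    simp only [m, Subgroup.coe_mul, map_mul, MulEquiv.apply_symm_apply] at hab
    have h' := qq_comm (i := 0) (j := 1) (by norm_num) (by norm_num) (by norm_num)
    rw [hab] at h'
    exact zH_ne (mul_eq_left.1 h'.symm)
  · simp [commutatorElement_def]
  · simp [pow_two]

end CfsgLib.ThOut
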